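import Groth.Agent.BlowUpLib.Glue

/-!
# Standard charts of a blowing up
-/

set_option autoImplicit false
set_option linter.style.haveILetI false
universe u

open CategoryTheory Limits AlgebraicGeometry

namespace Groth.Agent.Flattening12

theorem exists_mul_pow_eq {A : Type u} [CommRing A] (I : Ideal A) {c : A} (hc : c ∈ I)
    (q : BlowUp.affineAlgebra A I c) :
    ∃ d : ℕ, ∃ x ∈ I ^ d, (q : Localization.Away c) * algebraMap A _ c ^ d = algebraMap A _ x := by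
  obtain ⟨q, hq⟩ := q
  change q ∈ Algebra.adjoin _ _ at hq
  induction hq using Algebra.adjoin_induction with
  | mem q hq =>
    obtain ⟨x, hx, rfl⟩ := hq
    exact ⟨1, x, by rwa [pow_one], by
      rw [pow_one]; exact IsLocalization.mk'_spec (Localization.Away c) x ⟨c, Submonoid.mem_powers c⟩⟩
  | algebraMap r => exact ⟨0, r, by simp, by simp⟩
  | add p q _ _ hp hq =>
    obtain ⟨d, x, hx, ex⟩ := hp
    obtain ⟨e, y, hy, ey⟩ := hq
    refine ⟨d + e, x * c ^ e + c ^ d * y, add_mem ?_ ?_, ?_⟩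
    · rw [pow_add]; exact Ideal.mul_mem_mul hx (Ideal.pow_mem_pow hc e)
    · rw [pow_add]; exact Ideal.mul_mem_mul (Ideal.pow_mem_pow hc d) hy
    · rw [map_add, map_mul, map_mul, map_pow, map_pow, ← ex, ← ey]; ring
  | mul p q _ _ hp hq =>
    obtain ⟨d, x, hx, ex⟩ := hp
    obtain ⟨e, y, hy, ey⟩ := hq
    refine ⟨d + e, x * y, by rw [pow_add]; exact Ideal.mul_mem_mul hx hy, ?_⟩
    rw [map_mul, ← ex, ← ey]; ring

/-- Near every point a blowing up is the spectrum of an affine blow-up algebra. -/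
theorem exists_standard_chart {X Y : Scheme.{u}} {b : Y ⟶ X} {C : X.IdealSheafData} (hb : BlowUp.IsBlowUp b C)
    (V : X.affineOpens) {y : Y} (hy : b y ∈ V.1) :
    ∃ c ∈ C.ideal V, ∃ (W : Y.affineOpens) (e : W.1 ≤ b ⁻¹ᵁ V.1), y ∈ W.1 ∧
      (C.comap b).ideal W = Ideal.span {b.appLE V.1 W.1 e c} ∧
      ∀ a : Γ(Y, W.1), ∃ d : ℕ, ∃ x ∈ C.ideal V ^ d, a * b.appLE V.1 W.1 e c ^ d = b.appLE V.1 W.1 e x := by
  let U : X.AffineZariskiSite := ⟨V.1, V.2⟩
  obtain ⟨ε, hε⟩ := BlowUpLib.exists_iso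
    (BlowUpLib.isBlowUp_of_isPullback (isPullback_morphismRestrict b V.1) hb) (BlowUpLib.isBlowUp_piece C U)
  let I := C.ideal ⟨V.1, V.2⟩
  obtain ⟨c, hc⟩ := BlowUpLib.chart_covers I (ε.hom ⟨y, hy⟩)
  let A' := BlowUp.affineAlgebra Γ(X, V.1) I (c : Γ(X, V.1))
  let j : Spec (CommRingCat.of A') ⟶ Y := BlowUpLib.chart I c ≫ ε.inv ≫ (b ⁻¹ᵁ V.1).ι
  let α : Γ(X, V.1) →+* A' := algebraMap _ _
  have hjb : j ≫ b = Spec.map (CommRingCat.ofHom α) ≫ V.2.fromSpec := by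
    have h1 : ε.inv ≫ (b ⁻¹ᵁ V.1).ι ≫ b = BlowUpLib.toBase I ≫ V.2.fromSpec := by
      rw [← morphismRestrict_ι, ← hε]
      simp only [Category.assoc, Iso.inv_hom_id_assoc]
      rw [BlowUpLib.pieceMap, Category.assoc, IsAffineOpen.isoSpec_inv_ι]
    simp only [j, Category.assoc, h1]
    exact BlowUpLib.chart_toBase_assoc I c _
  haveI : IsOpenImmersion j := inferInstance
  let W : Y.affineOpens := ⟨j.opensRange, isAffineOpen_opensRange j⟩
  have hyW : y ∈ W.1 := by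
    obtain ⟨w, hw⟩ := hc
    refine ⟨w, show (b ⁻¹ᵁ V.1).ι (ε.inv (BlowUpLib.chart I c w)) = y from ?_⟩
    refine (congrArg (fun z => (b ⁻¹ᵁ V.1).ι (ε.inv z)) hw).trans ?_
    exact congrArg (b ⁻¹ᵁ V.1).ι (congr($(ε.hom_inv_id) ⟨y, hy⟩))
  have e : W.1 ≤ b ⁻¹ᵁ V.1 := by
    rintro _ ⟨w, rfl⟩
    show b (j w) ∈ V.1
    rw [← Scheme.Hom.comp_apply, hjb]
    exact V.2.range_fromSpec.le ⟨_, rfl⟩
  haveI : IsOpenImmersion W.2.fromSpec := IsAffineOpen.isOpenImmersion_fromSpec _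
  obtain ⟨ι, hι⟩ := Spec.map_surjective (IsOpenImmersion.isoOfRangeEq j W.2.fromSpec
    (by rw [W.2.range_fromSpec]; rfl)).hom
  haveI : IsIso (Spec.map ι) := by rw [hι]; infer_instance
  haveI : IsIso ι := by
    have : IsIso (Scheme.Spec.map ι.op) := ‹IsIso (Spec.map ι)›
    have := isIso_of_reflects_iso ι.op Scheme.Spec
    exact isIso_of_op ι
  have hcomp : ∀ r, ι.hom (b.appLE V.1 W.1 e r) = α r := by
    intro r
    suffices b.appLE V.1 W.1 e ≫ ι = CommRingCat.ofHom α from congr($(this).hom r)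
    refine Spec.map_injective ?_
    haveI : IsOpenImmersion V.2.fromSpec := IsAffineOpen.isOpenImmersion_fromSpec _
    rw [← cancel_mono V.2.fromSpec, Spec.map_comp, Category.assoc,
      IsAffineOpen.SpecMap_appLE_fromSpec b V.2 W.2 e, ← Category.assoc, ← hjb, hι,
      IsOpenImmersion.isoOfRangeEq_hom_fac]
  have hbij : Function.Bijective ι.hom := ConcreteCategory.bijective_of_isIso ι
  refine ⟨c, c.2, W, e, hyW, ?_, fun a => ?_⟩
  · rw [ModPairLib.ideal_comap _ b V W e]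
    refine le_antisymm (Ideal.map_le_iff_le_comap.mpr fun x hx => ?_)
      ((Ideal.span_singleton_le_iff_mem _).mpr (Ideal.mem_map_of_mem _ c.2))
    obtain ⟨w, hw⟩ := hbij.2 (BlowUpLib.frac I ⟨x, hx⟩ c)
    refine Ideal.mem_span_singleton'.mpr ⟨w, hbij.1 ?_⟩
    rw [map_mul, hcomp, hw, hcomp]
    exact BlowUpLib.frac_mul I ⟨x, hx⟩ c
  · obtain ⟨d, x, hx, hd⟩ := exists_mul_pow_eq I c.2 (ι.hom a)
    refine ⟨d, x, hx, hbij.1 ?_⟩
    have e1 : ι.hom (b.appLE V.1 W.1 e c.1) ^ d = α c.1 ^ d := congrArg (· ^ d) (hcomp c.1)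
    have e2 : ι.hom a * α c.1 ^ d = α x := Subtype.ext hd
    rw [map_mul, map_pow]
    exact ((congrArg (ι.hom a * ·) e1).trans e2).trans (hcomp x).symm

end Groth.Agent.Flattening12
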