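import Mathlib.Topology.Separation.Basic
import Mathlib.Topology.Compactness.Compact
import Mathlib.Order.Zorn

/-!
# Points of inverse systems of quasi-compact `T₀` spaces along closed maps
-/

set_option autoImplicit false
set_option linter.style.haveILetI false
universe u v

open Set Function

namespace Groth.Agent.Flattening12

variable {ι : Type u} [Preorder ι] [IsDirected ι (· ≤ ·)] {X : ι → Type v} [∀ i, TopologicalSpace (X i)]

/-- An inverse system of nonempty closed subsets of quasi-compact `T₀` spaces, along closed maps, has a point. -/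
theorem exists_compatible_point [∀ i, CompactSpace (X i)] [∀ i, T0Space (X i)]
    (h : ∀ i j, i ≤ j → X j → X i) (hcl : ∀ i j (hij : i ≤ j), IsClosedMap (h i j hij))
    (hcont : ∀ i j (hij : i ≤ j), Continuous (h i j hij))
    (hid : ∀ i x, h i i le_rfl x = x)
    (hcomp : ∀ i j k (hij : i ≤ j) (hjk : j ≤ k) x, h i j hij (h j k hjk x) = h i k (hij.trans hjk) x)
    (B : ∀ i, Set (X i)) (hB : ∀ i, IsClosed (B i)) (hne : ∀ i, (B i).Nonempty)
    (hmaps : ∀ i j (hij : i ≤ j), MapsTo (h i j hij) (B j) (B i)) :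
    ∃ x : ∀ i, X i, (∀ i j (hij : i ≤ j), h i j hij (x j) = x i) ∧ ∀ i, x i ∈ B i := by
  classical
  let S : Set (∀ i, Set (X i))ᵒᵈ := {Z | ∀ Z' : ∀ i, Set (X i), OrderDual.toDual Z' = Z →
    (∀ i, IsClosed (Z' i)) ∧ (∀ i, (Z' i).Nonempty) ∧ (∀ i, Z' i ⊆ B i) ∧
      ∀ i j (hij : i ≤ j), MapsTo (h i j hij) (Z' j) (Z' i)}
  have hdir : ∀ i : ι, ∀ f : {j // i ≤ j} → Set (X i), (∀ j k (hjk : j.1 ≤ k.1), f k ⊆ f j) →
      (∀ j, IsClosed (f j)) → (∀ j, (f j).Nonempty) → (⋂ j, f j).Nonempty := by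
    intro i f hanti hfc hfn
    haveI : Nonempty {j // i ≤ j} := ⟨⟨i, le_rfl⟩⟩
    refine IsCompact.nonempty_iInter_of_directed_nonempty_isCompact_isClosed f (fun j k => ?_) hfn
      (fun j => (hfc j).isCompact) hfc
    obtain ⟨l, hjl, hkl⟩ := directed_of (· ≤ ·) j.1 k.1
    exact ⟨⟨l, j.2.trans hjl⟩, hanti j ⟨l, _⟩ hjl, hanti k ⟨l, _⟩ hkl⟩
  obtain ⟨Zd, hle, hZS, hZmax⟩ := zorn_le_nonempty₀ S (fun c hc hchain z hz => by
    refine ⟨OrderDual.toDual fun i => ⋂ w : c, OrderDual.ofDual w.1 i, fun Z' hZ' => ?_, fun w hw =>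
      show (fun i => ⋂ w : c, OrderDual.ofDual w.1 i) ≤ OrderDual.ofDual w from fun i =>
        iInter_subset (fun w : c => OrderDual.ofDual w.1 i) ⟨w, hw⟩⟩
    cases OrderDual.toDual.injective hZ'
    refine ⟨fun i => isClosed_iInter fun w => (hc w.2 _ rfl).1 i, fun i => ?_, fun i => ?_, fun i j hij x hx => ?_⟩
    · haveI : Nonempty c := ⟨⟨z, hz⟩⟩
      refine IsCompact.nonempty_iInter_of_directed_nonempty_isCompact_isClosed _ ?_
        (fun w => (hc w.2 _ rfl).2.1 i) (fun w => ((hc w.2 _ rfl).1 i).isCompact) fun w => (hc w.2 _ rfl).1 i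
      intro w w'
      rcases hchain.total w.2 w'.2 with hw | hw
      · exact ⟨w', (OrderDual.ofDual_le_ofDual.mpr hw) i, subset_rfl⟩
      · exact ⟨w, subset_rfl, (OrderDual.ofDual_le_ofDual.mpr hw) i⟩
    · exact (iInter_subset _ (⟨z, hz⟩ : c)).trans ((hc hz _ rfl).2.2.1 i)
    · exact mem_iInter.mpr fun w => (hc w.2 _ rfl).2.2.2 i j hij (mem_iInter.mp hx w))
    (OrderDual.toDual B) (fun Z' hZ' => by
      cases OrderDual.toDual.injective hZ'
      exact ⟨hB, hne, fun i => subset_rfl, hmaps⟩)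
  obtain ⟨Z, rfl⟩ := OrderDual.toDual.surjective Zd
  obtain ⟨hZc, hZn, hZB, hZm⟩ := hZS Z rfl
  have hmin : ∀ Z' : ∀ i, Set (X i), (∀ i, IsClosed (Z' i)) → (∀ i, (Z' i).Nonempty) → (∀ i, Z' i ⊆ Z i) →
      (∀ i j (hij : i ≤ j), MapsTo (h i j hij) (Z' j) (Z' i)) → ∀ i, Z i ⊆ Z' i := by
    intro Z' h1 h2 h3 h4
    exact hZmax (y := OrderDual.toDual Z') (fun W hW => by
      cases OrderDual.toDual.injective hW
      exact ⟨h1, h2, fun i => (h3 i).trans (hZB i), h4⟩) (OrderDual.toDual_le_toDual.mpr h3)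
  -- the transition maps of a minimal system are surjective
  have hsurj : ∀ i j (hij : i ≤ j), Z i ⊆ h i j hij '' Z j := by
    intro i j hij
    refine (hmin (fun k => ⋂ l : {l // k ≤ l}, h k l.1 l.2 '' Z l.1)
      (fun k => isClosed_iInter fun l => hcl _ _ _ _ (hZc _))
      (fun k => hdir k _ (fun a b hab => ?_) (fun l => hcl _ _ _ _ (hZc _)) fun l => (hZn _).image _)
      (fun k => (iInter_subset _ (⟨k, le_rfl⟩ : {l // k ≤ l})).trans ?_) ?_ i).trans
      (iInter_subset (fun l : {l // i ≤ l} => h i l.1 l.2 '' Z l.1) ⟨j, hij⟩)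
    · rintro _ ⟨x, hx, rfl⟩
      exact ⟨h a.1 b.1 hab x, hZm _ _ _ hx, hcomp _ _ _ _ _ x⟩
    · rintro _ ⟨x, hx, rfl⟩
      rwa [hid]
    · intro k l hkl x hx
      refine mem_iInter.mpr fun m => ?_
      obtain ⟨n, hln, hmn⟩ := directed_of (· ≤ ·) l m.1
      obtain ⟨y, hy, rfl⟩ := mem_iInter.mp hx ⟨n, hln⟩
      refine ⟨h m.1 n hmn y, hZm _ _ _ hy, ?_⟩
      rw [hcomp, hcomp]
  -- hence consists of single points
  have hsingle : ∀ i, ∃ x, Z i ⊆ {x} := by
    intro i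
    obtain ⟨x, hx, hxc⟩ := (hZc i).exists_closed_singleton (hZn i)
    let P : ∀ k, {l // k ≤ l} → Set (X k) := fun k l =>
      h k l.1 l.2 '' (Z l.1 ∩ if hl : i ≤ l.1 then h i l.1 hl ⁻¹' {x} else univ)
    have hPc : ∀ k l, IsClosed (P k l) := fun k l => hcl _ _ _ _ ((hZc _).inter (by
      split_ifs with hl
      · exact hxc.preimage (hcont _ _ hl)
      · exact isClosed_univ))
    have hPa : ∀ k (a b : {l // k ≤ l}), a.1 ≤ b.1 → P k b ⊆ P k a := by
      rintro k a b hab _ ⟨y, ⟨hy, hy'⟩, rfl⟩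
      refine ⟨h a.1 b.1 hab y, ⟨hZm _ _ _ hy, ?_⟩, hcomp _ _ _ _ _ y⟩
      split_ifs with hl
      · rw [dif_pos (hl.trans hab)] at hy'
        simpa [hcomp] using hy'
      · trivial
    have hPn : ∀ k l, (P k l).Nonempty := fun k l => by
      refine Nonempty.image _ ?_
      split_ifs with hl
      · obtain ⟨y, hy, hyx⟩ := hsurj i l.1 hl hx
        exact ⟨y, hy, hyx⟩
      · simpa using hZn _
    refine ⟨x, (hmin (fun k => ⋂ l, P k l) (fun k => isClosed_iInter (hPc k))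
      (fun k => hdir k _ (hPa k) (hPc k) (hPn k)) (fun k => (iInter_subset _ (⟨k, le_rfl⟩ : {l // k ≤ l})).trans ?_)
      ?_ i).trans ((iInter_subset _ (⟨i, le_rfl⟩ : {l // i ≤ l})).trans ?_)⟩
    · rintro _ ⟨y, hy, rfl⟩
      rw [hid]; exact hy.1
    · intro k l hkl y hy
      refine mem_iInter.mpr fun m => ?_
      obtain ⟨n, hln, hmn⟩ := directed_of (· ≤ ·) l m.1
      obtain ⟨z, hz, rfl⟩ := mem_iInter.mp hy ⟨n, hln⟩
      exact hPa k m ⟨n, m.2.trans hmn⟩ hmn ⟨z, hz, (hcomp _ _ _ _ _ z).symm⟩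
    · rintro _ ⟨y, ⟨-, hy⟩, rfl⟩
      rw [dif_pos le_rfl] at hy
      exact hy
  choose x hx using hsingle
  refine ⟨x, fun i j hij => ?_, fun i => ?_⟩
  · obtain ⟨y, hy⟩ := hZn j
    have hyx := hx j hy
    rw [mem_singleton_iff] at hyx
    exact hx i (hZm i j hij (hyx ▸ hy))
  · obtain ⟨y, hy⟩ := hZn i
    exact hZB i (mem_singleton_iff.mp (hx i hy) ▸ hy)

end Groth.Agent.Flattening12
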