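import Groth.Agent.Flattening12.Main
import Groth.Agent.BlowUpLib.Local
import Groth.Agent.S1240
import Groth.Agent.AlgSpDec.FibreDimEtale
import Groth.Agent.AlgSpDec.FieldFibre
import Mathlib.AlgebraicGeometry.ZariskisMainTheorem

/-!
# Properties of flat strict transforms read off over the centre's complement
-/

set_option linter.style.haveILetI false
set_option autoImplicit false
universe u

open CategoryTheory Limits AlgebraicGeometry TopologicalSpace

namespace Groth.Agent.Flattening12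

/-- A closed immersion through which a schematically dense open factors is an isomorphism. -/
theorem isIso_of_isClosedImmersion_of_dense {Z X : Scheme.{u}} (i : Z ⟶ X) [IsClosedImmersion i] (O : X.Opens)
    [IsSchemeTheoreticallyDominant O.ι] (j : (O : Scheme.{u}) ⟶ Z) (hj : j ≫ i = O.ι) : IsIso i := by
  rw [IsClosedImmersion.isIso_iff_ker_eq_bot, eq_bot_iff, ← O.ι.ker_eq_bot, ← hj]
  exact Scheme.Hom.le_ker_comp j i

variable {S : Scheme.{u}} {U : S.Opens}

theorem Model.interior_exc (D : Model U) : ModPair.interior D.exc = D.str ⁻¹ᵁ U := by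
  refine TopologicalSpace.Opens.ext ?_
  show ((D.exc.support : Set D.sch))ᶜ = D.str ⁻¹' (U : Set S)
  rw [Model.exc, Model.support_comap, Set.preimage_compl, compl_compl]

instance Model.isSchemeTheoreticallyDominant_preimage (D : Model U) :
    IsSchemeTheoreticallyDominant (D.str ⁻¹ᵁ U).ι := by
  rw [← D.interior_exc]
  exact ModPairLib.isSchemeTheoreticallyDominant_interior D.isEffCartier_exc

/-- The complement of the exceptional divisor stays schematically dense after a flat base change. -/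
theorem Model.isSchemeTheoreticallyDominant_preimage_flat (D : Model U) {Z : Scheme.{u}} (h : Z ⟶ D.sch) [Flat h] :
    IsSchemeTheoreticallyDominant (h ⁻¹ᵁ (D.str ⁻¹ᵁ U)).ι := by
  have hE := BlowUpLib.isEffCartier_comap_flat h D.isEffCartier_exc
  rw [← D.interior_exc, ModPairLib.preimage_interior]
  exact ModPairLib.isSchemeTheoreticallyDominant_interior hE

theorem Model.dense_preimage (D : Model U) : Dense (D.str ⁻¹' (U : Set S)) := by
  have : IsAffineHom (D.str ⁻¹ᵁ U).ι := by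
    rw [← D.interior_exc]
    exact ModPairLib.isAffineHom_interior (ModPairLib.isLocPrincipal_of_isEffCartier D.isEffCartier_exc)
  intro x
  have h := (inferInstance : IsDominant (D.str ⁻¹ᵁ U).ι).denseRange x
  rwa [Scheme.Opens.range_ι] at h

/-- Morphisms into the preimage of an open where `φ` is mono are determined by their composites with `φ`. -/
theorem eq_of_restrict_mono {X Y T : Scheme.{u}} (φ : X ⟶ Y) (V : Y.Opens) [Mono (φ ∣_ V)] (u v : T ⟶ X)
    (hu : ∀ t, φ (u t) ∈ V) (h : u ≫ φ = v ≫ φ) : u = v := by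
  have hv : ∀ t, φ (v t) ∈ V := fun t => by
    rw [← Scheme.Hom.comp_apply, ← h]; exact hu t
  have hu' : Set.range u ⊆ Set.range (φ ⁻¹ᵁ V).ι := by
    rw [Scheme.Opens.range_ι]; rintro _ ⟨t, rfl⟩; exact hu t
  have hv' : Set.range v ⊆ Set.range (φ ⁻¹ᵁ V).ι := by
    rw [Scheme.Opens.range_ι]; rintro _ ⟨t, rfl⟩; exact hv t
  rw [← IsOpenImmersion.lift_fac _ u hu', ← IsOpenImmersion.lift_fac _ v hv']
  congr 1
  rw [← cancel_mono (φ ∣_ V), ← cancel_mono V.ι, Category.assoc, Category.assoc, morphismRestrict_ι,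
    IsOpenImmersion.lift_fac_assoc, IsOpenImmersion.lift_fac_assoc, h]

/-- A separated flat morphism to a model which is mono over `U` is mono. -/
theorem Model.mono_of_flat (D : Model U) {Z : Scheme.{u}} (g : Z ⟶ D.sch) [IsSeparated g] [Flat g]
    [Mono (g ∣_ (D.str ⁻¹ᵁ U))] : Mono g := by
  rw [← pullback.isIso_diagonal_iff]
  haveI := D.isSchemeTheoreticallyDominant_preimage_flat (pullback.fst g g ≫ g)
  refine isIso_of_isClosedImmersion_of_dense _ ((pullback.fst g g ≫ g) ⁻¹ᵁ (D.str ⁻¹ᵁ U))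
    (Scheme.Opens.ι _ ≫ pullback.fst g g) (pullback.hom_ext ?_ ?_)
  · rw [Category.assoc, pullback.diagonal_fst, Category.comp_id]
  · rw [Category.assoc, pullback.diagonal_snd, Category.comp_id]
    exact eq_of_restrict_mono g (D.str ⁻¹ᵁ U) _ _ (fun t => t.2) (by rw [Category.assoc, Category.assoc, pullback.condition])

/-- Restricting a base change. -/
theorem restrict_of_isPullback (P : MorphismProperty Scheme.{u}) [P.IsStableUnderBaseChange] {X Y X' Y' : Scheme.{u}}
    {p₁ : X' ⟶ X} {p₂ : X' ⟶ Y'} {f : X ⟶ Y} {b : Y' ⟶ Y} (sq : IsPullback p₁ p₂ f b) (V : Y.Opens)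
    (h : P (f ∣_ V)) : P (p₂ ∣_ (b ⁻¹ᵁ V)) := by
  have h1 : IsPullback ((p₂ ⁻¹ᵁ (b ⁻¹ᵁ V)).ι ≫ p₁) (p₂ ∣_ (b ⁻¹ᵁ V)) f ((b ⁻¹ᵁ V).ι ≫ b) :=
    (isPullback_morphismRestrict p₂ (b ⁻¹ᵁ V)).flip.paste_horiz sq
  have hr : Set.range ((p₂ ⁻¹ᵁ (b ⁻¹ᵁ V)).ι ≫ p₁) ⊆ Set.range (f ⁻¹ᵁ V).ι := by
    rw [Scheme.Opens.range_ι]
    rintro _ ⟨t, rfl⟩
    show f (p₁ ((p₂ ⁻¹ᵁ (b ⁻¹ᵁ V)).ι t)) ∈ V
    rw [← Scheme.Hom.comp_apply, sq.w]
    exact t.2
  let k := IsOpenImmersion.lift (f ⁻¹ᵁ V).ι _ hr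
  have h2 : IsPullback (k ≫ (f ⁻¹ᵁ V).ι) (p₂ ∣_ (b ⁻¹ᵁ V)) f ((b ∣_ V) ≫ V.ι) := by
    rw [morphismRestrict_ι, IsOpenImmersion.lift_fac]
    exact h1
  refine P.of_isPullback (IsPullback.of_right h2 ?_ (isPullback_morphismRestrict f V).flip) h
  rw [← cancel_mono V.ι, Category.assoc, Category.assoc, morphismRestrict_ι, morphismRestrict_ι,
    IsOpenImmersion.lift_fac_assoc, Category.assoc, sq.w, morphismRestrict_ι_assoc]

theorem fibreDimAt_eq_zero_of_restrict {Z Y : Scheme.{u}} (g : Z ⟶ Y) [LocallyOfFiniteType g] (V : Y.Opens)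
    [LocallyQuasiFinite (g ∣_ V)] (x : Z) (hx : g x ∈ V) : FlatMor.fibreDimAt g x = 0 := by
  rw [AlgSpDec.fibreDimAt_eq_zero_iff]
  haveI : DiscreteTopology ↥((g ∣_ V) ⁻¹' {(⟨g x, hx⟩ : V)}) :=
    isDiscrete_iff_discreteTopology.1 ((g ∣_ V).isDiscrete_preimage_singleton _)
  let k : ↥(g ⁻¹' {g x}) → ↥((g ∣_ V) ⁻¹' {(⟨g x, hx⟩ : V)}) := fun t =>
    ⟨⟨t.1, show g t.1 ∈ V by rw [show g t.1 = g x from t.2]; exact hx⟩, Subtype.ext (by
      exact (morphismRestrict_base_coe g V _).trans t.2)⟩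
  have hk : Continuous k := (continuous_subtype_val.subtype_mk _).subtype_mk _
  haveI : DiscreteTopology ↥(g ⁻¹' {g x}) :=
    DiscreteTopology.of_continuous_injective hk fun a b hab => Subtype.ext (congrArg (·.1.1) hab)
  haveI : DiscreteTopology ↥(g.fiber (g x)) := (g.fiberHomeo (g x)).isEmbedding.discreteTopology
  exact isOpen_discrete _

/-- A proper flat lfp morphism to a model which is finite over `U` is finite. -/
theorem Model.isFinite_of_flat (D : Model U) {Z : Scheme.{u}} (g : Z ⟶ D.sch) [IsProper g] [Flat g]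
    [LocallyOfFinitePresentation g] [LocallyQuasiFinite (g ∣_ (D.str ⁻¹ᵁ U))] : IsFinite g := by
  haveI : LocallyQuasiFinite g := (AlgSpDec.lqf_iff_fibreDimAt g).2 fun x =>
    AlgSpDec.FieldFibre.fibreDimAt_eq_zero_of_le g x (S1240.result g (D.str ⁻¹ᵁ U) D.dense_preimage 0
      (fun y hy => (fibreDimAt_eq_zero_of_restrict g _ y hy).le) (Or.inl inferInstance) x)
  exact IsFinite.of_isProper_of_locallyQuasiFinite g

end Groth.Agent.Flattening12
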