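import Groth.Agent.Flattening12.Ideal

/-!
# Admissible blow-ups dominate modifications
-/

set_option linter.style.haveILetI false
set_option autoImplicit false
universe u

open CategoryTheory Limits AlgebraicGeometry TopologicalSpace

namespace Groth.Agent.Flattening12

variable {X S : Scheme.{u}} [CompactSpace S] [QuasiSeparatedSpace S]

/-- On all high models the strict transform of a separated map which is an isomorphism over `U` embeds openly. -/
theorem exists_model_isOpenImmersion (φ : X ⟶ S) [IsSeparated φ] [LocallyOfFiniteType φ] [QuasiCompact φ]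
    (U : S.Opens) (hU : IsCompact (U : Set S)) [IsIso (φ ∣_ U)] :
    ∃ C : Model U, ∀ D : Model U, C ≤ D →
      ∀ (X' : Scheme.{u}) (p₁ : X' ⟶ X) (p₂ : X' ⟶ D.sch), IsPullback p₁ p₂ φ D.str →
      ∀ (𝒥 : X'.IdealSheafData),
        (∀ (W : X'.affineOpens) (a : Γ(X', W.1)), a ∈ 𝒥.ideal W ↔
          BlowUp.KilledByPowerNear ((D.centre.comap φ).comap p₁) (Coh.structureModule X') W a) →
        IsOpenImmersion (𝒥.subschemeι ≫ p₂) := by
  obtain ⟨C, hC⟩ := exists_model_strictTransform_flat φ U hU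
  refine ⟨C, fun D hle X' p₁ p₂ sq 𝒥 h𝒥 => ?_⟩
  obtain ⟨hfl, hfp, -, -⟩ := hC D hle X' p₁ p₂ sq 𝒥 h𝒥
  haveI : IsSeparated p₂ := MorphismProperty.of_isPullback sq ‹IsSeparated φ›
  haveI : IsIso (p₂ ∣_ (D.str ⁻¹ᵁ U)) :=
    restrict_of_isPullback (MorphismProperty.isomorphisms Scheme.{u}) sq U ‹IsIso (φ ∣_ U)›
  haveI : IsClosedImmersion (𝒥.subschemeι ∣_ (p₂ ⁻¹ᵁ (D.str ⁻¹ᵁ U))) :=
    IsZariskiLocalAtTarget.restrict (P := @IsClosedImmersion) inferInstance _
  haveI : IsPreimmersion (𝒥.subschemeι ∣_ (p₂ ⁻¹ᵁ (D.str ⁻¹ᵁ U))) := inferInstance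
  have hm : Mono ((𝒥.subschemeι ∣_ (p₂ ⁻¹ᵁ (D.str ⁻¹ᵁ U))) ≫ (p₂ ∣_ (D.str ⁻¹ᵁ U))) := mono_comp _ _
  haveI : Mono ((𝒥.subschemeι ≫ p₂) ∣_ (D.str ⁻¹ᵁ U)) := by
    rw [morphismRestrict_comp]
    exact hm
  haveI := D.mono_of_flat (𝒥.subschemeι ≫ p₂)
  exact IsOpenImmersion.of_flat_of_mono _

/-- A modification which is trivial over `U` is dominated by all high models. -/
theorem exists_model_factor (φ : X ⟶ S) [IsProper φ] (U : S.Opens) (hU : IsCompact (U : Set S)) [IsIso (φ ∣_ U)] :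
    ∃ C : Model U, ∀ D : Model U, C ≤ D → ∃ h : D.sch ⟶ X, h ≫ φ = D.str := by
  obtain ⟨C, hC⟩ := exists_model_isOpenImmersion φ U hU
  refine ⟨C, fun D hle => ?_⟩
  let p₁ := pullback.fst φ D.str
  let p₂ := pullback.snd φ D.str
  have sq : IsPullback p₁ p₂ φ D.str := IsPullback.of_hasPullback φ D.str
  let E := (D.centre.comap φ).comap p₁
  have hE : E = D.exc.comap p₂ := by
    show (D.centre.comap φ).comap p₁ = _
    rw [Model.exc, ← Scheme.IdealSheafData.comap_comp, ← Scheme.IdealSheafData.comap_comp, sq.w]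
  haveI : IsAffineHom (ModPair.interior E).ι := by
    rw [hE]
    exact ModPairLib.isAffineHom_interior ((ModPairLib.isLocPrincipal_of_isEffCartier D.isEffCartier_exc).comap p₂)
  let 𝒥 := (ModPair.interior E).ι.ker
  haveI := hC D hle _ p₁ p₂ sq 𝒥
    (mem_ker_interior_iff E (MorLib.IdealFG.isFG_comap (MorLib.IdealFG.isFG_comap D.fg φ) p₁))
  let g := 𝒥.subschemeι ≫ p₂
  haveI : IsProper p₂ := MorphismProperty.of_isPullback sq ‹IsProper φ›
  haveI : IsIso (p₂ ∣_ (D.str ⁻¹ᵁ U)) :=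
    restrict_of_isPullback (MorphismProperty.isomorphisms Scheme.{u}) sq U ‹IsIso (φ ∣_ U)›
  have hsub : D.str ⁻¹' (U : Set S) ⊆ Set.range g := fun y hy => by
    obtain ⟨x, hx⟩ := (p₂ ∣_ (D.str ⁻¹ᵁ U)).homeomorph.surjective ⟨y, hy⟩
    have hx' : p₂ x.1 = y := (morphismRestrict_base_coe p₂ _ x).symm.trans (congrArg Subtype.val hx)
    have hmem : x.1 ∈ ModPair.interior E := by
      rw [hE, ← ModPairLib.preimage_interior, Model.interior_exc]
      exact x.2
    obtain ⟨z, hz⟩ := 𝒥.range_subschemeι.ge ((ModPair.interior E).ι.range_subset_ker_support ⟨⟨x.1, hmem⟩, rfl⟩)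
    exact ⟨z, (congrArg p₂ hz).trans hx'⟩
  haveI : Surjective g := ⟨fun y => by
    have := (IsClosed.closure_subset_iff g.isClosedMap.isClosed_range).2 hsub (D.dense_preimage y)
    exact this⟩
  haveI : IsOpenImmersion g := ‹IsOpenImmersion (𝒥.subschemeι ≫ p₂)›
  haveI : IsIso g := (isIso_iff_isOpenImmersion_and_surjective g).2 ⟨inferInstance, inferInstance⟩
  refine ⟨inv g ≫ 𝒥.subschemeι ≫ p₁, ?_⟩
  rw [Category.assoc, Category.assoc, sq.w, ← Category.assoc 𝒥.subschemeι, IsIso.inv_hom_id_assoc]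

end Groth.Agent.Flattening12
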