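import Groth.Agent.RG11.LocalNhdAlg
import Groth.Agent.RG11.FPBC
import Groth.Agent.RG11.LocalUI
import Groth.Agent.FlatModel.Open
import Mathlib.RingTheory.Flat.Localization

/-!
# Flat finite modules which are finitely presented over a scheme-theoretically dense open
-/

set_option autoImplicit false
universe u

namespace Groth.Agent.Flattening12

variable {P : Type u} [CommRing P]

/-- The kernel of a surjection is finitely generated after localising where the target is finitely presented. -/
theorem exists_fg_le_localized {L N : Type u} [AddCommGroup L] [Module P L] [AddCommGroup N] [Module P N]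
    [Module.Finite P L] (π : L →ₗ[P] N) (hπ : Function.Surjective π) (S : Submonoid P)
    (h : Module.FinitePresentation (Localization S) (LocalizedModule S N)) :
    ∃ K₀ : Submodule P L, K₀.FG ∧ K₀ ≤ LinearMap.ker π ∧
      ∀ k ∈ LinearMap.ker π, ∃ s ∈ S, s • k ∈ K₀ := by
  classical
  let l := LocalizedModule.mkLinearMap S L
  let lN := LocalizedModule.mkLinearMap S N
  let πS := (IsLocalizedModule.map S l lN π).extendScalarsOfIsLocalization S (Localization S)
  have : Module.Finite (Localization S) (LocalizedModule S L) := Module.Finite.of_isLocalizedModule S l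
  have hfg := Module.FinitePresentation.fg_ker πS (IsLocalizedModule.map_surjective S l lN π hπ)
  rw [← LinearMap.localized'_ker_eq_ker_localizedMap, Submodule.localized'_eq_span,
    Submodule.fg_span_iff_fg_span_finset_subset] at hfg
  obtain ⟨t, ht, hspan⟩ := hfg
  obtain ⟨t', ht', rfl⟩ := Finset.subset_set_image_iff.mp ht
  refine ⟨Submodule.span P t', Submodule.fg_span t'.finite_toSet, Submodule.span_le.mpr ht', fun k hk => ?_⟩
  have hmem : l k ∈ (Submodule.span P (t' : Set L)).localized' (Localization S) S l := by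
    rw [Submodule.localized'_span]
    have := hspan.le (Submodule.subset_span ⟨k, hk, rfl⟩)
    rwa [Finset.coe_image] at this
  obtain ⟨m, hm, s, hs⟩ := hmem
  rw [← IsLocalizedModule.mk'_one S l, IsLocalizedModule.mk'_eq_mk'_iff] at hs
  obtain ⟨c, hc⟩ := hs
  refine ⟨c * s, mul_mem c.2 s.2, ?_⟩
  have e : ((c : P) * s) • k = (c : P) • m := by
    simpa [Submonoid.smul_def, mul_smul] using hc
  exact e ▸ Submodule.smul_mem _ _ hm

variable {A : Type u} [CommRing A] [Algebra A P]

/-- A flat finite module over a finitely presented algebra which is finitely presented over finitely many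
basic opens that are jointly scheme-theoretically dense is finitely presented. -/
theorem finitePresentation_of_flat_dense [Algebra.FinitePresentation A P]
    (N : Type u) [AddCommGroup N] [Module P N] [Module A N] [IsScalarTower A P N] [Module.Finite P N]
    [Module.Flat A N] {n : ℕ} (f : Fin n → A)
    (hdense : Function.Injective (RingHom.pi (fun i => algebraMap A (Localization.Away (f i)))))
    (hfp : ∀ i, Module.FinitePresentation (Localization.Away (algebraMap A P (f i)))
      (LocalizedModule (Submonoid.powers (algebraMap A P (f i))) N)) :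
    Module.FinitePresentation P N := by
  classical
  obtain ⟨m, π, hπ⟩ := Module.Finite.exists_fin' P N
  choose Kf hKf hKfle hKfk using fun i => exists_fg_le_localized π hπ _ (hfp i)
  have hloc : ∀ q : PrimeSpectrum P, ∃ g ∉ q.asIdeal, ∃ K₀ : Submodule P (Fin m → P),
      K₀.FG ∧ K₀ ≤ LinearMap.ker π ∧ ∀ k ∈ LinearMap.ker π, ∃ e : ℕ, g ^ e • k ∈ K₀ := by
    intro q
    have hq : FlatCA.FlatAt A q.asIdeal N := RG11.flat_localizedModule q.asIdeal.primeCompl N
    obtain ⟨K₁, hK₁, hK₁le, hK₁k⟩ := exists_fg_le_localized π hπ q.asIdeal.primeCompl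
      (RG11.fp_atPrime_of_flatAt N q.asIdeal hq)
    let K₀ := K₁ ⊔ ⨆ i, Kf i
    have hK₀ : K₀.FG := hK₁.sup (Submodule.fg_iSup _ hKf)
    have hK₀le : K₀ ≤ LinearMap.ker π := sup_le hK₁le (iSup_le hKfle)
    let ρ : ((Fin m → P) ⧸ K₀) →ₗ[P] N := K₀.liftQ π hK₀le
    have : Module.FinitePresentation P ((Fin m → P) ⧸ K₀) :=
      Module.finitePresentation_of_surjective K₀.mkQ (Submodule.mkQ_surjective _) (by
        rw [Submodule.ker_mkQ]; exact hK₀)
    have hkerS : ∀ z, ρ z = 0 → ∃ s ∉ q.asIdeal, s • z = 0 := fun z hz => by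
      obtain ⟨k, rfl⟩ := Submodule.mkQ_surjective K₀ z
      obtain ⟨s, hs, hsk⟩ := hK₁k k hz
      refine ⟨s, hs, ?_⟩
      rw [← map_smul]
      exact (Submodule.Quotient.mk_eq_zero _).mpr (Submodule.mem_sup_left hsk)
    let ρq := IsLocalizedModule.map q.asIdeal.primeCompl
      (LocalizedModule.mkLinearMap q.asIdeal.primeCompl ((Fin m → P) ⧸ K₀))
      (LocalizedModule.mkLinearMap q.asIdeal.primeCompl N) ρ
    have hρq : Function.Bijective ρq := by
      refine ⟨(injective_iff_map_eq_zero _).mpr fun y hy => ?_, IsLocalizedModule.map_surjective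
        q.asIdeal.primeCompl _ _ ρ fun x => ⟨K₀.mkQ (hπ x).choose, (hπ x).choose_spec⟩⟩
      obtain ⟨⟨w, s⟩, rfl⟩ := IsLocalizedModule.mk'_surjective q.asIdeal.primeCompl
        (LocalizedModule.mkLinearMap q.asIdeal.primeCompl ((Fin m → P) ⧸ K₀)) y
      rw [Function.uncurry_apply_pair] at hy ⊢
      rw [IsLocalizedModule.map_mk', IsLocalizedModule.mk'_eq_zero'] at hy
      rw [IsLocalizedModule.mk'_eq_zero']
      obtain ⟨c, hc⟩ := hy
      obtain ⟨a, ha, ha0⟩ := hkerS ((c : P) • w) (by rw [map_smul]; exact hc)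
      exact ⟨⟨a, ha⟩ * c, by rw [Submonoid.smul_def, Submonoid.coe_mul, mul_smul]; exact ha0⟩
    have hflat₀ : FlatCA.FlatAt A q.asIdeal ((Fin m → P) ⧸ K₀) :=
      haveI : Module.Flat A (LocalizedModule q.asIdeal.primeCompl N) := hq
      Module.Flat.of_linearEquiv ((LinearEquiv.ofBijective ρq hρq).restrictScalars A)
    obtain ⟨g, hg, hflat⟩ := FlatModel.exists_flat_nhd ((Fin m → P) ⧸ K₀) q.asIdeal hflat₀
    refine ⟨g, hg, K₀, hK₀, hK₀le, fun k hk => ?_⟩
    -- the image of `k` is killed by powers of every `f i`, hence vanishes where the quotient is flat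
    have := hflat (Submonoid.powers g) (Submonoid.mem_powers g)
    let Q := LocalizedModule (Submonoid.powers g) ((Fin m → P) ⧸ K₀)
    let lg := LocalizedModule.mkLinearMap (Submonoid.powers g) ((Fin m → P) ⧸ K₀)
    suffices h0 : lg (K₀.mkQ k) = 0 by
      obtain ⟨⟨_, e, rfl⟩, he⟩ := (IsLocalizedModule.eq_zero_iff (Submonoid.powers g) lg).mp h0
      refine ⟨e, (Submodule.Quotient.mk_eq_zero _).mp ?_⟩
      rw [Submodule.Quotient.mk_smul]
      exact he
    let φ : A →ₗ[A] ∀ i, Localization.Away (f i) :=
      LinearMap.pi fun i => Algebra.linearMap A (Localization.Away (f i))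
    have hinj := Module.Flat.lTensor_preserves_injective_linearMap (M := Q) φ hdense
    have h1 : lg (K₀.mkQ k) ⊗ₜ[A] (1 : A) = 0 := by
      refine hinj ?_
      rw [map_zero, LinearMap.lTensor_tmul]
      refine (TensorProduct.piRight A A Q (fun i => Localization.Away (f i))).injective ?_
      ext i
      obtain ⟨_, ⟨e, rfl⟩, he⟩ := hKfk i k hk
      have hz : f i ^ e • lg (K₀.mkQ k) = 0 := by
        rw [← algebraMap_smul P (f i ^ e), map_pow, ← map_smul, ← map_smul,
          show K₀.mkQ (algebraMap A P (f i) ^ e • k) = 0 from (Submodule.Quotient.mk_eq_zero _).mpr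
            (Submodule.mem_sup_right (Submodule.mem_iSup_of_mem i he)), map_zero]
      obtain ⟨v, hv⟩ := ((IsLocalization.Away.algebraMap_isUnit (S := Localization.Away (f i)) (f i)).pow e).exists_left_inv
      rw [← map_pow, mul_comm, ← Algebra.smul_def] at hv
      rw [TensorProduct.piRight_apply, TensorProduct.piRightHom_tmul]
      simp only [φ, LinearMap.pi_apply, Algebra.linearMap_apply, map_one, map_zero, Pi.zero_apply]
      rw [← hv, ← TensorProduct.smul_tmul, hz, TensorProduct.zero_tmul]
    simpa using congrArg (TensorProduct.rid A Q) h1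
  choose g hg K₀ hK₀ hK₀le hK₀k using hloc
  have hspan : Ideal.span (Set.range g) = ⊤ := by
    by_contra h
    obtain ⟨M, hM, hle⟩ := Ideal.exists_le_maximal _ h
    exact hg ⟨M, hM.isPrime⟩ (hle (Ideal.subset_span ⟨_, rfl⟩))
  obtain ⟨t, ht⟩ := (Submodule.mem_span_finite_of_mem_span ((Ideal.eq_top_iff_one _).mp hspan) : ∃ t : Finset P, _ ∧ _)
  obtain ⟨t', -, rfl⟩ := Finset.subset_set_image_iff.mp (Set.image_univ (f := g) ▸ ht.1)
  have h1 : (1 : P) ∈ Ideal.span (g '' (t' : Set (PrimeSpectrum P))) := Finset.coe_image (f := g) (s := t') ▸ ht.2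
  refine Module.finitePresentation_of_surjective π hπ ?_
  have heq : LinearMap.ker π = ⨆ q : t', K₀ q := by
    refine le_antisymm (fun k hk => ?_) (iSup_le fun q => hK₀le q)
    choose e he using fun q : PrimeSpectrum P => hK₀k q k hk
    have htop : Ideal.span (Set.range fun q : t' => g q ^ e q) = ⊤ := by
      by_contra h
      obtain ⟨M, hM, hle⟩ := Ideal.exists_le_maximal _ h
      refine hM.ne_top ((Ideal.eq_top_iff_one _).mpr (Ideal.span_le.mpr ?_ h1))
      rintro _ ⟨q, hq, rfl⟩
      exact hM.isPrime.mem_of_pow_mem (e q) (hle (Ideal.subset_span ⟨⟨q, hq⟩, rfl⟩))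
    refine Submodule.mem_of_span_top_of_smul_mem _ _ htop k ?_
    rintro ⟨_, q, rfl⟩
    exact Submodule.mem_iSup_of_mem q (he q)
  rw [heq]
  exact Submodule.fg_iSup _ fun q => hK₀ q

end Groth.Agent.Flattening12
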