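import Groth.Agent.Flattening12.Stage
import Mathlib.RingTheory.LocalProperties.Projective

/-!
# Changing the base in strict transforms
-/

set_option autoImplicit false
set_option linter.style.haveILetI false
universe u

namespace Groth.Agent.Flattening12

open TensorProduct

attribute [local instance] Algebra.TensorProduct.rightAlgebra

/-- The strict transforms of `N` along `A → C` with respect to `c` are flat and finitely presented. -/
def StrictAt (A : Type u) [CommRing A] (C : Type u) [CommRing C] [Algebra A C] (c : C)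
    (B : Type u) [CommRing B] [Algebra A B] (N : Type u) [AddCommGroup N] [Module B N] : Prop :=
  ∀ (B' N' : Type u) [CommRing B'] [Algebra B B'] [Algebra C B'] [Algebra A B'] [IsScalarTower A B B']
    [IsScalarTower A C B'] [Algebra.IsPushout A C B B']
    [AddCommGroup N'] [Module B N'] [Module B' N'] [IsScalarTower B B' N'] [Module C N'] [IsScalarTower C B' N']
    (φ : N →ₗ[B] N'), IsBaseChange B' φ →
      Module.Flat C (N' ⧸ FlatCA.powTorsion B' (algebraMap C B' c) N') ∧
        Module.FinitePresentation B' (N' ⧸ FlatCA.powTorsion B' (algebraMap C B' c) N')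

theorem powTorsion_congr {P : Type u} [CommRing P] {x y : P} {n m : ℕ} (hxy : x ∣ y ^ n) (hyx : y ∣ x ^ m)
    (M : Type u) [AddCommGroup M] [Module P M] : FlatCA.powTorsion P x M = FlatCA.powTorsion P y M := by
  have key : ∀ {a b : P} {k : ℕ}, a ∣ b ^ k → FlatCA.powTorsion P a M ≤ FlatCA.powTorsion P b M := by
    intro a b k ⟨d, hd⟩ z hz
    obtain ⟨e, he⟩ := mem_powTorsion.mp hz
    exact mem_powTorsion.mpr ⟨k * e, by rw [pow_mul, hd, mul_comm, mul_pow, mul_smul, he, smul_zero]⟩
  exact le_antisymm (key hxy) (key hyx)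

variable {A₀ : Type u} [CommRing A₀] {B₀ : Type u} [CommRing B₀] [Algebra A₀ B₀]
  {N : Type u} [AddCommGroup N] [Module B₀ N]

/-- Only the radical of the element matters. -/
theorem StrictAt.congr {C : Type u} [CommRing C] [Algebra A₀ C] {c c' : C} (h : StrictAt A₀ C c B₀ N)
    {n m : ℕ} (h₁ : c ∣ c' ^ n) (h₂ : c' ∣ c ^ m) : StrictAt A₀ C c' B₀ N := by
  intro B' N' _ _ _ _ _ _ _ _ _ _ _ _ _ φ hφ
  rw [← powTorsion_congr (x := algebraMap C B' c) (n := n) (m := m)
    (by rw [← map_pow]; exact map_dvd _ h₁) (by rw [← map_pow]; exact map_dvd _ h₂) N']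
  exact h B' N' φ hφ

/-- Good strict transforms stay good after a further base change keeping the element regular. -/
theorem StrictAt.map {C C' : Type u} [CommRing C] [CommRing C'] [Algebra A₀ C] [Algebra A₀ C'] [Algebra C C']
    [IsScalarTower A₀ C C'] {c : C} (h : StrictAt A₀ C c B₀ N) (hc : algebraMap C C' c ∈ nonZeroDivisors C') :
    StrictAt A₀ C' (algebraMap C C' c) B₀ N := by
  intro B' N' _ _ _ _ _ _ _ _ _ _ _ _ _ φ hφ
  letI : Algebra C B' := ((algebraMap C' B').comp (algebraMap C C')).toAlgebra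
  haveI : IsScalarTower C C' B' := IsScalarTower.of_algebraMap_eq' rfl
  haveI : IsScalarTower A₀ C B' := IsScalarTower.of_algebraMap_eq fun x => by
    rw [IsScalarTower.algebraMap_apply C C' B', ← IsScalarTower.algebraMap_apply A₀ C C',
      ← IsScalarTower.algebraMap_apply A₀ C' B']
  let ψ : (C ⊗[A₀] B₀) →ₐ[A₀] B' := Algebra.TensorProduct.lift (IsScalarTower.toAlgHom A₀ C B')
    (IsScalarTower.toAlgHom A₀ B₀ B') fun _ _ => .all _ _
  letI : Algebra (C ⊗[A₀] B₀) B' := ψ.toRingHom.toAlgebra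
  haveI : IsScalarTower A₀ (C ⊗[A₀] B₀) B' := IsScalarTower.of_algebraMap_eq fun x => (ψ.commutes x).symm
  haveI : IsScalarTower C (C ⊗[A₀] B₀) B' := IsScalarTower.of_algebraMap_eq fun x => by
    show _ = ψ (x ⊗ₜ 1)
    simp [ψ]
  haveI : IsScalarTower B₀ (C ⊗[A₀] B₀) B' := IsScalarTower.of_algebraMap_eq fun x => by
    show _ = ψ (1 ⊗ₜ x)
    simp [ψ]
  haveI : Algebra.IsPushout C C' (C ⊗[A₀] B₀) B' := (Algebra.IsPushout.comp_iff A₀ C B₀ (C ⊗[A₀] B₀)).mp ‹_›
  letI : Module (C ⊗[A₀] B₀) N' := Module.compHom N' ψ.toRingHom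
  haveI : IsScalarTower (C ⊗[A₀] B₀) B' N' := IsScalarTower.of_algebraMap_smul fun _ _ => rfl
  haveI : IsScalarTower B₀ (C ⊗[A₀] B₀) N' := IsScalarTower.of_algebraMap_smul fun b m => by
    show ψ (1 ⊗ₜ b) • m = b • m
    simp [ψ, algebraMap_smul]
  let NC := (C ⊗[A₀] B₀) ⊗[B₀] N
  have hl : IsBaseChange (C ⊗[A₀] B₀) (TensorProduct.mk B₀ (C ⊗[A₀] B₀) N 1) := TensorProduct.isBaseChange B₀ N (C ⊗[A₀] B₀)
  let φ₁ : NC →ₗ[(C ⊗[A₀] B₀)] N' := hl.lift φ
  have hφ₁ : IsBaseChange B' φ₁ := IsBaseChange.of_comp hl ((hl.lift_comp φ).symm ▸ hφ)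
  obtain ⟨hflat, hfp⟩ := h (C ⊗[A₀] B₀) NC (TensorProduct.mk B₀ (C ⊗[A₀] B₀) N 1) hl
  set x := algebraMap C (C ⊗[A₀] B₀) c
  let Q := NC ⧸ FlatCA.powTorsion (C ⊗[A₀] B₀) x NC
  haveI : Module.Flat C Q := hflat
  haveI : Module.FinitePresentation (C ⊗[A₀] B₀) Q := hfp
  have hbc := TensorProduct.isBaseChange (C ⊗[A₀] B₀) Q B'
  obtain ⟨e⟩ := exists_quotient_powTorsion_equiv (b := x) hφ₁ hbc (FlatCA.powTorsion (C ⊗[A₀] B₀) x NC).mkQ
    (Submodule.mkQ_surjective _) (fun z hz => mem_powTorsion.mp ((Submodule.Quotient.mk_eq_zero _).mp hz))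
  have hx : algebraMap (C ⊗[A₀] B₀) B' x = algebraMap C' B' (algebraMap C C' c) := by
    rw [← IsScalarTower.algebraMap_apply C (C ⊗[A₀] B₀) B', ← IsScalarTower.algebraMap_apply C C' B']
  rw [hx] at e
  let Q' := B' ⊗[(C ⊗[A₀] B₀)] Q
  haveI : Module.Flat C' Q' :=
    Module.Flat.of_linearEquiv (isBaseChange_restrictScalars (A := C) (C := C') hbc).equiv.symm
  have hreg : IsSMulRegular Q' (algebraMap C' B' (algebraMap C C' c)) := by
    have h0 : IsSMulRegular C' (algebraMap C C' c) := fun p q h => by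
      simp only [smul_eq_mul] at h
      exact sub_eq_zero.mp (mem_nonZeroDivisors_iff_right.mp hc _
        (by rw [sub_mul, mul_comm p, mul_comm q, h, sub_self]))
    have h2 := Module.Flat.rTensor_preserves_injective_linearMap (M := Q')
      (LinearMap.lsmul C' C' (algebraMap C C' c)) h0
    intro p q h
    have h' : algebraMap C C' c • p = algebraMap C C' c • q := by simpa [algebraMap_smul] using h
    have h3 : (1 : C') ⊗ₜ[C'] p = (1 : C') ⊗ₜ[C'] q := h2 (by
      simp only [LinearMap.rTensor_tmul, LinearMap.lsmul_apply]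
      rw [smul_tmul, smul_tmul, h'])
    simpa using congrArg (TensorProduct.lid C' Q') h3
  rw [powTorsion_eq_bot (M := Q') hreg] at e
  let e' := e.trans (Submodule.quotEquivOfEqBot (⊥ : Submodule B' Q') rfl)
  exact ⟨Module.Flat.of_linearEquiv (e'.restrictScalars C'), Module.FinitePresentation.of_equiv e'.symm⟩

/-- From the base-changed datum back to the original one. -/
theorem StrictAt.of_strictFlatFP {A C : Type u} [CommRing A] [CommRing C] [Algebra A₀ A] [Algebra A C] [Algebra A₀ C]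
    [IsScalarTower A₀ A C] {f : A} (h : StrictFlatFP A f C (A ⊗[A₀] B₀) ((A ⊗[A₀] B₀) ⊗[B₀] N)) :
    StrictAt A₀ C (algebraMap A C f) B₀ N := by
  intro B' N' _ _ _ _ _ _ _ _ _ _ _ _ _ φ hφ
  letI : Algebra A B' := ((algebraMap C B').comp (algebraMap A C)).toAlgebra
  haveI : IsScalarTower A C B' := IsScalarTower.of_algebraMap_eq' rfl
  haveI : IsScalarTower A₀ A B' := IsScalarTower.of_algebraMap_eq fun x => by
    rw [IsScalarTower.algebraMap_apply A C B', ← IsScalarTower.algebraMap_apply A₀ A C,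
      ← IsScalarTower.algebraMap_apply A₀ C B']
  let ψ : (A ⊗[A₀] B₀) →ₐ[A₀] B' := Algebra.TensorProduct.lift (IsScalarTower.toAlgHom A₀ A B')
    (IsScalarTower.toAlgHom A₀ B₀ B') fun _ _ => .all _ _
  letI : Algebra (A ⊗[A₀] B₀) B' := ψ.toRingHom.toAlgebra
  haveI : IsScalarTower A₀ (A ⊗[A₀] B₀) B' := IsScalarTower.of_algebraMap_eq fun x => (ψ.commutes x).symm
  haveI : IsScalarTower A (A ⊗[A₀] B₀) B' := IsScalarTower.of_algebraMap_eq fun x => by
    show _ = ψ (x ⊗ₜ 1)
    simp [ψ]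
  haveI : IsScalarTower B₀ (A ⊗[A₀] B₀) B' := IsScalarTower.of_algebraMap_eq fun x => by
    show _ = ψ (1 ⊗ₜ x)
    simp [ψ]
  haveI : Algebra.IsPushout A C (A ⊗[A₀] B₀) B' := (Algebra.IsPushout.comp_iff A₀ A B₀ (A ⊗[A₀] B₀)).mp ‹_›
  letI : Module (A ⊗[A₀] B₀) N' := Module.compHom N' ψ.toRingHom
  haveI : IsScalarTower (A ⊗[A₀] B₀) B' N' := IsScalarTower.of_algebraMap_smul fun _ _ => rfl
  haveI : IsScalarTower B₀ (A ⊗[A₀] B₀) N' := IsScalarTower.of_algebraMap_smul fun b m => by
    show ψ (1 ⊗ₜ b) • m = b • m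
    simp [ψ, algebraMap_smul]
  have hl : IsBaseChange (A ⊗[A₀] B₀) (TensorProduct.mk B₀ (A ⊗[A₀] B₀) N 1) := TensorProduct.isBaseChange B₀ N (A ⊗[A₀] B₀)
  have hφ₁ : IsBaseChange B' (hl.lift φ) := IsBaseChange.of_comp hl ((hl.lift_comp φ).symm ▸ hφ)
  have := h B' N' (hl.lift φ) hφ₁
  rwa [show algebraMap A B' f = algebraMap C B' (algebraMap A C f) from rfl] at this

/-- A base change along a map inverting `b` only depends on the localisation at `b`. -/
theorem exists_isBaseChange_of_isUnit {B₀ T : Type u} [CommRing B₀] [CommRing T] [Algebra B₀ T] {b : B₀}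
    (hb : IsUnit (algebraMap B₀ T b)) {N P : Type u} [AddCommGroup N] [Module B₀ N] [AddCommGroup P] [Module B₀ P]
    [Module T P] [IsScalarTower B₀ T P] {φ : N →ₗ[B₀] P} (hφ : IsBaseChange T φ) :
    (∃ ψ : LocalizedModule (Submonoid.powers b) N →ₗ[B₀] P, IsBaseChange T ψ) ∧
      (Module.FinitePresentation (Localization.Away b) (LocalizedModule (Submonoid.powers b) N) →
        Module.FinitePresentation T P) := by
  let Bk := Localization.Away b
  let Nk := LocalizedModule (Submonoid.powers b) N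
  letI : Algebra Bk T := (IsLocalization.Away.lift b hb : Bk →+* T).toAlgebra
  haveI : IsScalarTower B₀ Bk T := IsScalarTower.of_algebraMap_eq fun y =>
    (IsLocalization.Away.lift_eq (S := Bk) b hb y).symm
  letI : Module Bk P := Module.compHom P (algebraMap Bk T)
  haveI : IsScalarTower Bk T P := IsScalarTower.of_algebraMap_smul fun _ _ => rfl
  haveI : IsScalarTower B₀ Bk P := IsScalarTower.of_algebraMap_smul fun y m => by
    show algebraMap Bk T (algebraMap B₀ Bk y) • m = y • m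
    rw [← IsScalarTower.algebraMap_apply, algebraMap_smul]
  have hN : IsBaseChange Bk (LocalizedModule.mkLinearMap (Submonoid.powers b) N) :=
    IsLocalizedModule.isBaseChange (Submonoid.powers b) Bk _
  let ψ₁ : Nk →ₗ[Bk] P := hN.lift φ
  have hψ₁ : IsBaseChange T ψ₁ := IsBaseChange.of_comp hN ((hN.lift_comp φ).symm ▸ hφ)
  haveI : IsLocalization (Algebra.algebraMapSubmonoid T (Submonoid.powers b)) T :=
    IsLocalization.self (by
      rintro _ ⟨_, ⟨j, rfl⟩, rfl⟩
      rw [map_pow]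
      exact hb.pow j)
  haveI : Algebra.IsPushout B₀ T Bk T := Algebra.isPushout_of_isLocalization (Submonoid.powers b) Bk T T
  refine ⟨⟨ψ₁.restrictScalars B₀, IsBaseChange.of_equiv
    ((Algebra.IsPushout.cancelBaseChange B₀ T Bk T Nk).symm ≪≫ₗ hψ₁.equiv) fun m => ?_⟩, fun h => ?_⟩
  · simp [IsBaseChange.equiv_tmul]
  · haveI : Module.FinitePresentation Bk Nk := h
    exact Module.FinitePresentation.of_equiv hψ₁.equiv

/-- On an algebra inverting `b`, flat over the base change, the base change of `N` is good. -/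
theorem good_of_isUnit [Module A₀ N] [IsScalarTower A₀ B₀ N] {A : Type u} [CommRing A] [Algebra A₀ A]
    {T : Type u} [CommRing T] [Algebra B₀ T] [Algebra (A ⊗[A₀] B₀) T] [IsScalarTower B₀ (A ⊗[A₀] B₀) T]
    [Algebra A T] [IsScalarTower A (A ⊗[A₀] B₀) T] [Module.Flat (A ⊗[A₀] B₀) T]
    {b : B₀} (hb : IsUnit (algebraMap B₀ T b))
    (hflat : Module.Flat A₀ (LocalizedModule (Submonoid.powers b) N))
    (hfp : Module.FinitePresentation (Localization.Away b) (LocalizedModule (Submonoid.powers b) N))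
    {P : Type u} [AddCommGroup P] [Module B₀ P] [Module (A ⊗[A₀] B₀) P] [Module T P] [Module A P]
    [IsScalarTower B₀ T P] [IsScalarTower B₀ (A ⊗[A₀] B₀) P] [IsScalarTower (A ⊗[A₀] B₀) T P]
    [IsScalarTower A (A ⊗[A₀] B₀) P] [IsScalarTower A T P]
    {φ : N →ₗ[B₀] P} (hφ : IsBaseChange T φ) : Module.Flat A P ∧ Module.FinitePresentation T P := by
  obtain ⟨⟨ψ, hψ⟩, hψfp⟩ := exists_isBaseChange_of_isUnit hb hφ
  refine ⟨?_, hψfp hfp⟩
  let Nk := LocalizedModule (Submonoid.powers b) N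
  haveI : Module.Flat A₀ Nk := hflat
  have hbN : IsBaseChange (A ⊗[A₀] B₀) (TensorProduct.mk B₀ (A ⊗[A₀] B₀) Nk 1) :=
    TensorProduct.isBaseChange B₀ Nk (A ⊗[A₀] B₀)
  haveI : Module.Flat A ((A ⊗[A₀] B₀) ⊗[B₀] Nk) :=
    Module.Flat.of_linearEquiv (isBaseChange_restrictScalars (A := A₀) (C := A) hbN).equiv.symm
  exact FlatFibres.flat_of_isBaseChange (R := A) _
    (IsBaseChange.of_comp hbN ((hbN.lift_comp ψ).symm ▸ hψ) : IsBaseChange T (hbN.lift ψ))

/-- Goodness may be checked after inverting elements of the original base spanning the unit ideal. -/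
theorem good_local_span [Module A₀ N] [IsScalarTower A₀ B₀ N] {A : Type u} [CommRing A] [Algebra A₀ A]
    {T : Type u} [CommRing T] [Algebra B₀ T] [Algebra (A ⊗[A₀] B₀) T] [IsScalarTower B₀ (A ⊗[A₀] B₀) T]
    [Algebra A T] [IsScalarTower A (A ⊗[A₀] B₀) T] [Module.Flat (A ⊗[A₀] B₀) T]
    {n : ℕ} (r : Fin n → A₀)
    (hs : Ideal.span (Set.range fun k => algebraMap B₀ T (algebraMap A₀ B₀ (r k))) = ⊤)
    (hflat : ∀ k, Module.Flat A₀ (LocalizedModule (Submonoid.powers (algebraMap A₀ B₀ (r k))) N))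
    (hfp : ∀ k, Module.FinitePresentation (Localization.Away (algebraMap A₀ B₀ (r k)))
      (LocalizedModule (Submonoid.powers (algebraMap A₀ B₀ (r k))) N))
    {P : Type u} [AddCommGroup P] [Module B₀ P] [Module T P] [IsScalarTower B₀ T P] [Module A P] [IsScalarTower A T P]
    {φ : N →ₗ[B₀] P} (hφ : IsBaseChange T φ) : Module.Flat A P ∧ Module.FinitePresentation T P := by
  let s := fun k => algebraMap B₀ T (algebraMap A₀ B₀ (r k))
  have hgood : ∀ k, Module.Flat A (Localization.Away (s k) ⊗[T] P) ∧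
      Module.FinitePresentation (Localization.Away (s k)) (Localization.Away (s k) ⊗[T] P) := by
    intro k
    let Tk := Localization.Away (s k)
    have hbu : IsUnit (algebraMap B₀ Tk (algebraMap A₀ B₀ (r k))) := by
      rw [IsScalarTower.algebraMap_apply B₀ T Tk]
      exact IsLocalization.Away.algebraMap_isUnit (s k)
    have hk : IsBaseChange Tk (((TensorProduct.mk T Tk P 1).restrictScalars B₀) ∘ₗ φ) :=
      hφ.comp (TensorProduct.isBaseChange T P Tk)
    haveI : Module.Flat (A ⊗[A₀] B₀) Tk := Module.Flat.trans (A ⊗[A₀] B₀) T Tk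
    exact good_of_isUnit (T := Tk) (P := Tk ⊗[T] P) (A := A)
      (φ := ((TensorProduct.mk T Tk P 1).restrictScalars B₀) ∘ₗ φ) hbu (hflat k) (hfp k) hk
  constructor
  · refine Module.flat_of_isLocalized_span (R := A) (S := T) (M := P) (Set.range s) hs
      (fun t => Localization.Away t.1 ⊗[T] P) (fun t => TensorProduct.mk T (Localization.Away t.1) P 1) ?_
    rintro ⟨_, k, rfl⟩
    exact (hgood k).1
  · refine Module.FinitePresentation.of_localizationSpan' (Set.range s) hs
      (Rₚ := fun t => Localization.Away t.1) (fun t => TensorProduct.mk T (Localization.Away t.1) P 1) ?_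
    rintro ⟨_, k, rfl⟩
    exact (hgood k).2

set_option maxHeartbeats 1000000 in
/-- Where the original module is good over the `D(r k)`, the base change is good over `D(f)`. -/
theorem localized_baseChange_good [Module A₀ N] [IsScalarTower A₀ B₀ N] {A : Type u} [CommRing A] [Algebra A₀ A]
    {n : ℕ} (r : Fin n → A₀) (f : A)
    (hspan : Ideal.span (Set.range fun k => algebraMap A₀ (Localization.Away f) (r k)) = ⊤)
    (hflat : ∀ k, Module.Flat A₀ (LocalizedModule (Submonoid.powers (algebraMap A₀ B₀ (r k))) N))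
    (hfp : ∀ k, Module.FinitePresentation (Localization.Away (algebraMap A₀ B₀ (r k)))
      (LocalizedModule (Submonoid.powers (algebraMap A₀ B₀ (r k))) N)) :
    Module.Flat A (LocalizedModule (Submonoid.powers (algebraMap A (A ⊗[A₀] B₀) f)) ((A ⊗[A₀] B₀) ⊗[B₀] N)) ∧
      Module.FinitePresentation (Localization.Away (algebraMap A (A ⊗[A₀] B₀) f))
        (LocalizedModule (Submonoid.powers (algebraMap A (A ⊗[A₀] B₀) f)) ((A ⊗[A₀] B₀) ⊗[B₀] N)) := by
  let x := algebraMap A (A ⊗[A₀] B₀) f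
  let T := Localization.Away x
  have hs : Ideal.span (Set.range fun k => algebraMap B₀ T (algebraMap A₀ B₀ (r k))) = ⊤ := by
    let ψ : Localization.Away f →+* T := IsLocalization.Away.lift f (g := algebraMap A T) (by
      rw [IsScalarTower.algebraMap_apply A (A ⊗[A₀] B₀) T]
      exact IsLocalization.Away.algebraMap_isUnit x)
    have hψ : ∀ a : A₀, ψ (algebraMap A₀ (Localization.Away f) a) = algebraMap B₀ T (algebraMap A₀ B₀ a) := fun a => by
      rw [IsScalarTower.algebraMap_apply A₀ A (Localization.Away f), IsLocalization.Away.lift_eq,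
        ← IsScalarTower.algebraMap_apply A₀ A T, ← IsScalarTower.algebraMap_apply A₀ B₀ T]
    have h := congrArg (Ideal.map ψ) hspan
    rw [Ideal.map_top, Ideal.map_span, ← Set.range_comp] at h
    rw [← h]
    exact congrArg (fun t => Ideal.span (Set.range t)) (funext fun k => (hψ (r k)).symm)
  let P := LocalizedModule (Submonoid.powers x) ((A ⊗[A₀] B₀) ⊗[B₀] N)
  let l : (A ⊗[A₀] B₀) ⊗[B₀] N →ₗ[A ⊗[A₀] B₀] P := LocalizedModule.mkLinearMap (Submonoid.powers x) _
  have hl : IsBaseChange T l := IsLocalizedModule.isBaseChange (Submonoid.powers x) T l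
  have hφ : IsBaseChange T ((l.restrictScalars B₀) ∘ₗ TensorProduct.mk B₀ (A ⊗[A₀] B₀) N 1) :=
    (TensorProduct.isBaseChange B₀ N (A ⊗[A₀] B₀)).comp hl
  haveI h1 : IsScalarTower B₀ T P := inferInstance
  haveI h2 : IsScalarTower A T P := inferInstance
  haveI h3 : Module.Flat (A ⊗[A₀] B₀) T := inferInstance
  haveI h4 : IsScalarTower B₀ (A ⊗[A₀] B₀) T := inferInstance
  have := good_local_span (A := A) (T := T) (P := P) r hs hflat hfp hφ
  refine ⟨this.1, this.2⟩


end Groth.Agent.Flattening12
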