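import Groth.Agent.Flattening12.Local
import Groth.Agent.Flattening12.Compact
import Groth.Agent.Flattening12.StrictAt

/-!
# A blowing up making all strict transforms flat and finitely presented
-/

set_option autoImplicit false
set_option linter.style.haveILetI false
universe u

open CategoryTheory Limits AlgebraicGeometry TopologicalSpace TensorProduct

namespace Groth.Agent.Flattening12

attribute [local instance] Algebra.TensorProduct.rightAlgebra

/-- The strict transform of a datum over `Vs` is good on an affine open of a scheme over it. -/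
def StrictOn {S Y : Scheme.{u}} (π : Y ⟶ S) {Vs : S.affineOpens} (W : Y.affineOpens) (e : W.1 ≤ π ⁻¹ᵁ Vs.1)
    (c : Γ(Y, W.1)) (B₀ : Type u) [CommRing B₀] [Algebra Γ(S, Vs.1) B₀] (N : Type u) [AddCommGroup N]
    [Module B₀ N] : Prop :=
  letI : Algebra Γ(S, Vs.1) Γ(Y, W.1) := (π.appLE Vs.1 W.1 e).hom.toAlgebra
  StrictAt Γ(S, Vs.1) Γ(Y, W.1) c B₀ N

/-- Two principal ideals with the same zeros have the same radical. -/
theorem exists_dvd_pow_of_basicOpen_le {Y : Scheme.{u}} (W : Y.affineOpens) {a b : Γ(Y, W.1)}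
    (h : Y.basicOpen b ≤ Y.basicOpen a) : ∃ n, a ∣ b ^ n := by
  have hp : PrimeSpectrum.basicOpen b ≤ PrimeSpectrum.basicOpen a := by
    rw [← W.2.fromSpec_preimage_basicOpen b, ← W.2.fromSpec_preimage_basicOpen a]
    exact fun q hq => h hq
  obtain ⟨N, hN⟩ := (PrimeSpectrum.basicOpen_le_basicOpen_iff b a).mp hp
  exact ⟨N, Ideal.mem_span_singleton.mp hN⟩

/-- The basic open of a generator is the complement of the support. -/
theorem mem_basicOpen_gen_iff {Y : Scheme.{u}} {I : Y.IdealSheafData} {W : Y.affineOpens} {a : Γ(Y, W.1)}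
    (ha : I.ideal W = Ideal.span {a}) {y : Y} (hy : y ∈ W.1) :
    y ∈ Y.basicOpen a ↔ y ∉ (I.support : Set Y) := by
  refine ⟨fun h h' => (ZBBlow.mem_support_iff hy).mp h' a (ha ▸ Ideal.mem_span_singleton_self a) h, fun h => ?_⟩
  by_contra h'
  refine h ((ZBBlow.mem_support_iff hy).mpr fun g hg => ?_)
  rw [ha, Ideal.mem_span_singleton] at hg
  obtain ⟨r, rfl⟩ := hg
  rw [Scheme.basicOpen_mul]
  exact fun hh => h' hh.1

theorem ideal_of_le {Y : Scheme.{u}} (I : Y.IdealSheafData) {W W' : Y.affineOpens} (h : W'.1 ≤ W.1) {a : Γ(Y, W.1)}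
    (ha : I.ideal W = Ideal.span {a}) :
    I.ideal W' = Ideal.span {(Y.presheaf.map (homOfLE h).op).hom a} := by
  rw [← I.map_ideal (U := W') (V := W) h, ha, Ideal.map_span, Set.image_singleton]
  rfl

variable {S : Scheme.{u}} {U : S.Opens} {Vs : S.affineOpens}

section

variable (Vs) (B₀ : Type u) [CommRing B₀] [Algebra Γ(S, Vs.1) B₀] (N : Type u) [AddCommGroup N] [Module B₀ N]

/-- The strict transform is good near a point of a model. -/
def Model.Good (C : Model U) (s : C.sch) : Prop :=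
  ∃ (W : C.sch.affineOpens) (e : W.1 ≤ C.str ⁻¹ᵁ Vs.1) (c : Γ(C.sch, W.1)),
    s ∈ W.1 ∧ C.exc.ideal W = Ideal.span {c} ∧ StrictOn C.str W e c B₀ N

variable {Vs B₀ N}

theorem Model.good_of_strictOn {C D : Model U} (h : C ≤ D) (W : D.sch.affineOpens) (e : W.1 ≤ D.str ⁻¹ᵁ Vs.1)
    (c : Γ(D.sch, W.1)) (hc : (C.centre.comap D.str).ideal W = Ideal.span {c})
    (hs : StrictOn D.str W e c B₀ N) {s : D.sch} (hsW : s ∈ W.1) : D.Good Vs B₀ N s := by
  obtain ⟨W₀, hsW₀, d₀, -, hd₀⟩ := D.isEffCartier_exc s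
  obtain ⟨_, ⟨W', hW', rfl⟩, hsW', hle⟩ := D.sch.isBasis_affineOpens.exists_subset_of_mem_open
    (show s ∈ ((W.1 ⊓ W₀.1 : D.sch.Opens) : Set D.sch) from ⟨hsW, hsW₀⟩) (W.1 ⊓ W₀.1).isOpen
  let W₁ : D.sch.affineOpens := ⟨W', hW'⟩
  have h₁ : W₁.1 ≤ W.1 := fun x hx => (hle hx).1
  have h₀ : W₁.1 ≤ W₀.1 := fun x hx => (hle hx).2
  let c₁ : Γ(D.sch, W₁.1) := (D.sch.presheaf.map (homOfLE h₁).op).hom c
  let d : Γ(D.sch, W₁.1) := (D.sch.presheaf.map (homOfLE h₀).op).hom d₀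
  have hc₁ : (C.centre.comap D.str).ideal W₁ = Ideal.span {c₁} := ideal_of_le _ h₁ hc
  have hd : D.exc.ideal W₁ = Ideal.span {d} := ideal_of_le _ h₀ hd₀
  have key : ∀ x ∈ W₁.1, x ∈ D.sch.basicOpen c₁ ↔ x ∈ D.sch.basicOpen d := fun x hx => by
    rw [mem_basicOpen_gen_iff hc₁ hx, mem_basicOpen_gen_iff hd hx, Model.exc, Model.support_comap, Model.support_comap]
  obtain ⟨n, hn⟩ := exists_dvd_pow_of_basicOpen_le W₁ (a := c₁) (b := d)
    fun x hx => (key x (D.sch.basicOpen_le d hx)).mpr hx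
  obtain ⟨m, hm⟩ := exists_dvd_pow_of_basicOpen_le W₁ (a := d) (b := c₁)
    fun x hx => (key x (D.sch.basicOpen_le c₁ hx)).mp hx
  refine ⟨W₁, h₁.trans e, d, hsW', hd, ?_⟩
  letI : Algebra Γ(S, Vs.1) Γ(D.sch, W.1) := (D.str.appLE Vs.1 W.1 e).hom.toAlgebra
  letI : Algebra Γ(S, Vs.1) Γ(D.sch, W₁.1) := (D.str.appLE Vs.1 W₁.1 (h₁.trans e)).hom.toAlgebra
  letI : Algebra Γ(D.sch, W.1) Γ(D.sch, W₁.1) := (D.sch.presheaf.map (homOfLE h₁).op).hom.toAlgebra
  haveI : IsScalarTower Γ(S, Vs.1) Γ(D.sch, W.1) Γ(D.sch, W₁.1) :=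
    IsScalarTower.of_algebraMap_eq fun a => congr($((Scheme.Hom.appLE_map D.str e (homOfLE h₁).op).symm).hom a)
  exact (StrictAt.map (C' := Γ(D.sch, W₁.1)) hs (ModPairLib.generator_mem_nonZeroDivisors h hc₁)).congr hn hm

theorem Model.Good.mono {C D : Model U} (h : C ≤ D) {s : D.sch} (hs : C.Good Vs B₀ N (Model.hom h s)) :
    D.Good Vs B₀ N s := by
  obtain ⟨W, e, c, hsW, hc, hst⟩ := hs
  obtain ⟨_, ⟨W', hW', rfl⟩, hsW', hle⟩ := D.sch.isBasis_affineOpens.exists_subset_of_mem_open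
    (show s ∈ ((Model.hom h ⁻¹ᵁ W.1 : D.sch.Opens) : Set D.sch) from hsW) (Model.hom h ⁻¹ᵁ W.1).isOpen
  let W₁ : D.sch.affineOpens := ⟨W', hW'⟩
  have e₁ : W₁.1 ≤ Model.hom h ⁻¹ᵁ W.1 := hle
  have e₂ : W₁.1 ≤ D.str ⁻¹ᵁ Vs.1 := fun x hx => by
    show D.str x ∈ Vs.1
    rw [← Model.hom_str h]
    exact e (e₁ hx)
  let c₁ : Γ(D.sch, W₁.1) := ((Model.hom h).appLE W.1 W₁.1 e₁).hom c
  have hc₁ : (C.centre.comap D.str).ideal W₁ = Ideal.span {c₁} := by
    rw [← Model.exc_comap h, ModPairLib.ideal_comap _ _ W W₁ e₁, hc, Ideal.map_span, Set.image_singleton]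
  refine Model.good_of_strictOn h W₁ e₂ c₁ hc₁ ?_ hsW'
  letI : Algebra Γ(S, Vs.1) Γ(C.sch, W.1) := (C.str.appLE Vs.1 W.1 e).hom.toAlgebra
  letI : Algebra Γ(S, Vs.1) Γ(D.sch, W₁.1) := (D.str.appLE Vs.1 W₁.1 e₂).hom.toAlgebra
  letI : Algebra Γ(C.sch, W.1) Γ(D.sch, W₁.1) := ((Model.hom h).appLE W.1 W₁.1 e₁).hom.toAlgebra
  haveI : IsScalarTower Γ(S, Vs.1) Γ(C.sch, W.1) Γ(D.sch, W₁.1) := by
    refine IsScalarTower.of_algebraMap_eq fun a => ?_
    have : C.str.appLE Vs.1 W.1 e ≫ (Model.hom h).appLE W.1 W₁.1 e₁ = D.str.appLE Vs.1 W₁.1 e₂ := by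
      rw [Scheme.Hom.appLE_comp_appLE]
      exact Nbhd.appLE_congr (Model.hom_str h) _ _
    exact congr($(this).hom a).symm
  exact StrictAt.map (C' := Γ(D.sch, W₁.1)) hst (ModPairLib.generator_mem_nonZeroDivisors h hc₁)

variable [Module Γ(S, Vs.1) N] [IsScalarTower Γ(S, Vs.1) B₀ N]

/-- Over a limit point the strict transform becomes good on some model. -/
theorem exists_good_of_limPoint [CompactSpace S] [QuasiSeparatedSpace S] (hU : IsCompact (U : Set S))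
    [Algebra.FinitePresentation Γ(S, Vs.1) B₀] [Module.Finite B₀ N]
    (hgood : ∀ r : Γ(S, Vs.1), S.basicOpen r ≤ U →
      Module.Flat Γ(S, Vs.1) (LocalizedModule (Submonoid.powers (algebraMap Γ(S, Vs.1) B₀ r)) N) ∧
        Module.FinitePresentation (Localization.Away (algebraMap Γ(S, Vs.1) B₀ r))
          (LocalizedModule (Submonoid.powers (algebraMap Γ(S, Vs.1) B₀ r)) N))
    (z : LimPoint U) (hz : ∀ C : Model U, C.str (z.pt C) ∈ Vs.1) : ∃ D : Model U, D.Good Vs B₀ N (z.pt D) := by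
  classical
  obtain ⟨C₀⟩ := Model.exists_model hU
  obtain ⟨W₀, hzW₀, f₀, -, hf₀⟩ := C₀.isEffCartier_exc (z.pt C₀)
  obtain ⟨_, ⟨V', hV', rfl⟩, hzV, hle⟩ := C₀.sch.isBasis_affineOpens.exists_subset_of_mem_open
    (show z.pt C₀ ∈ ((W₀.1 ⊓ C₀.str ⁻¹ᵁ Vs.1 : C₀.sch.Opens) : Set C₀.sch) from ⟨hzW₀, hz C₀⟩)
    (W₀.1 ⊓ C₀.str ⁻¹ᵁ Vs.1).isOpen
  let V : C₀.sch.affineOpens := ⟨V', hV'⟩
  have eV : V.1 ≤ C₀.str ⁻¹ᵁ Vs.1 := fun x hx => (hle hx).2
  have hV₀ : V.1 ≤ W₀.1 := fun x hx => (hle hx).1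
  let f : Γ(C₀.sch, V.1) := (C₀.sch.presheaf.map (homOfLE hV₀).op).hom f₀
  have hf : C₀.exc.ideal V = Ideal.span {f} := ideal_of_le _ hV₀ hf₀
  letI : Algebra Γ(S, Vs.1) Γ(C₀.sch, V.1) := (C₀.str.appLE Vs.1 V.1 eV).hom.toAlgebra
  -- cover the part over `U`
  have hqc : IsCompact ((Vs.1 ⊓ U : S.Opens) : Set S) := Vs.2.isCompact.inter_of_isOpen hU Vs.1.isOpen U.isOpen
  have hex : ∀ x : ↥((Vs.1 ⊓ U : S.Opens) : Set S), ∃ r : Γ(S, Vs.1), S.basicOpen r ≤ U ∧ x.1 ∈ S.basicOpen r :=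
    fun x => Vs.2.exists_basicOpen_le (V := U) ⟨x.1, x.2.2⟩ x.2.1
  choose r hrU hxr using hex
  obtain ⟨t, ht⟩ := hqc.elim_finite_subcover (fun x => (S.basicOpen (r x) : Set S))
    (fun x => (S.basicOpen (r x)).isOpen) fun x hx => Set.mem_iUnion.mpr ⟨⟨x, hx⟩, hxr ⟨x, hx⟩⟩
  let rk : Fin t.card → Γ(S, Vs.1) := fun k => r (t.equivFin.symm k).1
  have hrad : f ∈ (Ideal.span (Set.range fun k => algebraMap Γ(S, Vs.1) Γ(C₀.sch, V.1) (rk k))).radical := by
    rw [← PrimeSpectrum.vanishingIdeal_zeroLocus_eq_radical, PrimeSpectrum.mem_vanishingIdeal]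
    intro q hq
    rw [PrimeSpectrum.zeroLocus_span, PrimeSpectrum.mem_zeroLocus, Set.range_subset_iff] at hq
    by_contra hfq
    have hxV : V.2.fromSpec q ∈ V.1 := V.2.range_fromSpec.le ⟨q, rfl⟩
    have h1 : q ∈ V.2.fromSpec ⁻¹ᵁ C₀.sch.basicOpen f := by
      rw [V.2.fromSpec_preimage_basicOpen]; exact hfq
    have hU' : C₀.str (V.2.fromSpec q) ∈ U := by
      have := (mem_basicOpen_gen_iff hf hxV).mp h1
      rw [Model.exc, Model.support_comap] at this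
      simpa using this
    obtain ⟨x, hxt, hx⟩ := Set.mem_iUnion₂.mp (ht ⟨eV hxV, hU'⟩)
    have h2 : V.2.fromSpec q ∈ C₀.sch.basicOpen ((C₀.str.appLE Vs.1 V.1 eV).hom (r x)) := by
      rw [Scheme.basicOpen_appLE]; exact ⟨hxV, hx⟩
    have h3 : q ∈ V.2.fromSpec ⁻¹ᵁ C₀.sch.basicOpen ((C₀.str.appLE Vs.1 V.1 eV).hom (r x)) := h2
    rw [V.2.fromSpec_preimage_basicOpen] at h3
    refine h3 ?_
    have := hq (t.equivFin ⟨x, hxt⟩)
    simpa [rk, RingHom.algebraMap_toAlgebra] using this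
  have hspan : Ideal.span (Set.range fun k => algebraMap Γ(S, Vs.1) (Localization.Away f) (rk k)) = ⊤ := by
    obtain ⟨n, hn⟩ := hrad
    have := Ideal.mem_map_of_mem (algebraMap Γ(C₀.sch, V.1) (Localization.Away f)) hn
    rw [Ideal.map_span, ← Set.range_comp] at this
    refine Ideal.eq_top_of_isUnit_mem _ ?_ (((IsLocalization.Away.algebraMap_isUnit f).pow n))
    rw [← map_pow]
    convert this using 3
    exact funext fun k => IsScalarTower.algebraMap_apply _ _ _ _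
  obtain ⟨hflat, hfp⟩ := localized_baseChange_good (B₀ := B₀) (N := N) rk f hspan
    (fun k => (hgood _ (hrU _)).1) (fun k => (hgood _ (hrU _)).2)
  haveI := Nbhd.nonempty z V hzV
  haveI : Algebra.FinitePresentation Γ(C₀.sch, V.1) (Γ(C₀.sch, V.1) ⊗[Γ(S, Vs.1)] B₀) :=
    Algebra.FinitePresentation.baseChange _
  haveI : Module.Finite (Γ(C₀.sch, V.1) ⊗[Γ(S, Vs.1)] B₀) ((Γ(C₀.sch, V.1) ⊗[Γ(S, Vs.1)] B₀) ⊗[B₀] N) :=
    inferInstance
  letI := fun i : Nbhd z V => Nbhd.algebra i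
  obtain ⟨i, hi⟩ := exists_stage_strictFlatFP (Nbhd.isColim (z := z) (V := V)) (Nbhd.algebraMap_mem_nzd hf)
    (Nbhd.isValuativeAt hf) ((Γ(C₀.sch, V.1) ⊗[Γ(S, Vs.1)] B₀) ⊗[B₀] N) hflat hfp
  have eW : i.W.1 ≤ i.D.str ⁻¹ᵁ Vs.1 := fun x hx => by
    show i.D.str x ∈ Vs.1
    rw [← Model.hom_str i.le]
    exact eV (i.map_le hx)
  letI : Algebra Γ(S, Vs.1) i.ring := (i.D.str.appLE Vs.1 i.W.1 eW).hom.toAlgebra
  haveI : IsScalarTower Γ(S, Vs.1) Γ(C₀.sch, V.1) i.ring := by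
    refine IsScalarTower.of_algebraMap_eq fun a => ?_
    have : C₀.str.appLE Vs.1 V.1 eV ≫ (Model.hom i.le).appLE V.1 i.W.1 i.map_le = i.D.str.appLE Vs.1 i.W.1 eW := by
      rw [Scheme.Hom.appLE_comp_appLE]
      exact Nbhd.appLE_congr (Model.hom_str i.le) _ _
    exact congr($(this).hom a).symm
  refine ⟨i.D, Model.good_of_strictOn i.le i.W eW (algebraMap Γ(C₀.sch, V.1) i.ring f) ?_
    (StrictAt.of_strictFlatFP hi) i.mem⟩
  rw [← Model.exc_comap i.le, ModPairLib.ideal_comap _ _ V i.W i.map_le, hf, Ideal.map_span, Set.image_singleton]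
  rfl

/-- Some model makes the strict transform good at all points over `Vs`. -/
theorem exists_model_forall_good [CompactSpace S] [QuasiSeparatedSpace S] (hU : IsCompact (U : Set S))
    [Algebra.FinitePresentation Γ(S, Vs.1) B₀] [Module.Finite B₀ N]
    (hgood : ∀ r : Γ(S, Vs.1), S.basicOpen r ≤ U →
      Module.Flat Γ(S, Vs.1) (LocalizedModule (Submonoid.powers (algebraMap Γ(S, Vs.1) B₀ r)) N) ∧
        Module.FinitePresentation (Localization.Away (algebraMap Γ(S, Vs.1) B₀ r))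
          (LocalizedModule (Submonoid.powers (algebraMap Γ(S, Vs.1) B₀ r)) N)) :
    ∃ C : Model U, ∀ D : Model U, C ≤ D → ∀ s : D.sch, D.str s ∈ Vs.1 → D.Good Vs B₀ N s := by
  classical
  suffices ∃ C : Model U, ∀ s : C.sch, C.str s ∈ Vs.1 → C.Good Vs B₀ N s by
    obtain ⟨C, hC⟩ := this
    refine ⟨C, fun D h s hs => Model.Good.mono h (hC _ ?_)⟩
    rw [← Model.hom_str h] at hs
    exact hs
  by_contra! hne
  let X : Model U → Type u := fun C => ↥(C.str ⁻¹ᵁ Vs.1)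
  haveI : ∀ C : Model U, CompactSpace (X C) := fun C =>
    isCompact_iff_compactSpace.mp (C.str.isCompact_preimage Vs.2.isCompact)
  let h : ∀ C D : Model U, C ≤ D → X D → X C := fun C D hCD x => ⟨Model.hom hCD x.1, by
    show C.str (Model.hom hCD x.1) ∈ Vs.1
    rw [← Scheme.Hom.comp_apply, Model.hom_str]
    exact x.2⟩
  obtain ⟨x, hx, hxB⟩ := exists_compatible_point (X := X) h
    (fun C D hCD K hK => by
      obtain ⟨T, hT, rfl⟩ := isClosed_induced_iff.mp hK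
      refine isClosed_induced_iff.mpr ⟨Model.hom hCD '' T, Model.isClosedMap_hom hCD T hT, ?_⟩
      ext y
      constructor
      · rintro ⟨t, ht, hty⟩
        refine ⟨⟨t, ?_⟩, ht, Subtype.ext hty⟩
        show D.str t ∈ Vs.1
        rw [← Model.hom_str hCD]
        exact (show C.str (Model.hom hCD t) ∈ Vs.1 from hty ▸ y.2)
      · rintro ⟨w, hw, rfl⟩
        exact ⟨w.1, hw, rfl⟩)
    (fun C D hCD => Continuous.subtype_mk ((Model.hom hCD).continuous.comp continuous_subtype_val) _)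
    (fun C y => Subtype.ext (Model.hom_id y.1))
    (fun C D E h₁ h₂ y => Subtype.ext (Model.hom_comp_apply h₁ h₂ y.1))
    (fun C => {y | ¬ C.Good Vs B₀ N y.1})
    (fun C => by
      rw [← isOpen_compl_iff, isOpen_iff_forall_mem_open]
      intro y hy
      obtain ⟨W, e, c, hyW, hc, hst⟩ := not_not.mp hy
      exact ⟨{y | y.1 ∈ W.1}, fun w hw hn => hn ⟨W, e, c, hw, hc, hst⟩,
        W.1.isOpen.preimage continuous_subtype_val, hyW⟩)
    (fun C => by obtain ⟨s, hs, hb⟩ := hne C; exact ⟨⟨s, hs⟩, hb⟩)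
    (fun C D hCD y hy hg => hy (Model.Good.mono hCD hg))
  obtain ⟨D, hD⟩ := exists_good_of_limPoint hU hgood
    ⟨fun C => (x C).1, fun hCD => congrArg Subtype.val (hx _ _ hCD)⟩ fun C => (x C).2
  exact hxB D hD

end

end Groth.Agent.Flattening12
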