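import Groth.Agent.Flattening12.Dense
import Groth.Agent.QCoh.FT

/-!
# The ideal of the strict transform of a scheme
-/

set_option linter.style.haveILetI false
set_option autoImplicit false
universe u

open CategoryTheory Limits AlgebraicGeometry TopologicalSpace

namespace Groth.Agent.Flattening12

variable {X : Scheme.{u}}

/-- The ideal of the schematic closure of the complement of `V(E)` consists of the sections killed by a power of `E`. -/
theorem mem_ker_interior_iff (E : X.IdealSheafData) (hE : BlowUp.IsFiniteTypeIdeal E)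
    [QuasiCompact (ModPair.interior E).ι] (V : X.affineOpens) (a : Γ(X, V.1)) :
    a ∈ (ModPair.interior E).ι.ker.ideal V ↔ BlowUp.KilledByPowerNear E (Coh.structureModule X) V a := by
  let O := ModPair.interior E
  rw [Scheme.Hom.ker_apply, RingHom.mem_ker]
  have hOV : ∀ g ∈ E.ideal V, X.basicOpen g ≤ O ⊓ V.1 := fun g hg x hx =>
    ⟨fun h => (ZBBlow.mem_support_iff (X.basicOpen_le g hx)).mp h g hg hx, X.basicOpen_le g hx⟩
  have hres : O.ι.app V.1 a = 0 ↔ (X.presheaf.map (homOfLE (inf_le_right : O ⊓ V.1 ≤ V.1)).op).hom a = 0 := by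
    rw [Scheme.Opens.ι_app]
    have e : O.ι ''ᵁ O.ι ⁻¹ᵁ V.1 = O ⊓ V.1 := by
      rw [Scheme.Hom.image_preimage_eq_opensRange_inf, Scheme.Opens.opensRange_ι]
    have key : ∀ (W : X.Opens) (_ : W = O ⊓ V.1) (h : W ≤ V.1), (X.presheaf.map (homOfLE h).op).hom a = 0 ↔
        (X.presheaf.map (homOfLE (inf_le_right : O ⊓ V.1 ≤ V.1)).op).hom a = 0 := by
      rintro _ rfl h; rfl
    exact key _ e _
  rw [hres]
  constructor
  · intro h
    let J : Ideal Γ(X, V.1) :=
      { carrier := {g | g * a = 0}
        add_mem' := fun {p q} hp hq => by simp only [Set.mem_setOf_eq, add_mul] at *; rw [hp, hq, add_zero]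
        zero_mem' := zero_mul a
        smul_mem' := fun c p hp => by simp only [Set.mem_setOf_eq, smul_eq_mul, mul_assoc] at *; rw [hp, mul_zero] }
    have hrad : E.ideal V ≤ J.radical := fun g hg => by
      have h0 : (X.presheaf.map (homOfLE (X.basicOpen_le g)).op).hom a = 0 := by
        have := congrArg (X.presheaf.map (homOfLE (hOV g hg)).op).hom h
        rw [map_zero] at this
        exact (QCoh.ringMap_map (X := X) _ _ a).symm.trans this
      haveI := V.2.isLocalization_basicOpen g
      obtain ⟨⟨_, n, rfl⟩, hn⟩ := (IsLocalization.map_eq_zero_iff (Submonoid.powers g)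
        Γ(X, X.basicOpen g) a).mp h0
      exact ⟨n, hn⟩
    obtain ⟨n, hn⟩ := Ideal.exists_pow_le_of_le_radical_of_fg hrad (hE V)
    refine ⟨n, fun g hg => ?_⟩
    rw [Scheme.IdealSheafData.ideal_pow, Pi.pow_apply] at hg
    exact hn hg
  · rintro ⟨n, hn⟩
    refine X.sheaf.eq_of_locally_eq' (fun g : E.ideal V => X.basicOpen g.1) (O ⊓ V.1)
      (fun g => homOfLE (hOV g.1 g.2)) (fun x hx => ?_) _ _ fun g => ?_
    · obtain ⟨hxO, hxV⟩ := hx
      by_contra hh
      exact hxO ((ZBBlow.mem_support_iff hxV).mpr fun g hg hxg => hh (Opens.mem_iSup.mpr ⟨⟨g, hg⟩, hxg⟩))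
    · have hga : g.1 ^ n * a = 0 := hn _ (by
        rw [Scheme.IdealSheafData.ideal_pow, Pi.pow_apply]
        exact Ideal.pow_mem_pow g.2 n)
      let res := (X.presheaf.map (homOfLE (X.basicOpen_le g.1)).op).hom
      have hu : IsUnit (res (g.1 ^ n)) := by
        rw [map_pow]; exact (RingedSpace.isUnit_res_basicOpen X.toRingedSpace g.1).pow n
      have h1 : res a = 0 := by
        rw [← hu.mul_right_eq_zero, ← map_mul, hga, map_zero]
      exact ((QCoh.ringMap_map (X := X) _ _ a).trans h1).trans (map_zero _).symm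

end Groth.Agent.Flattening12
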