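import Mathlib.RingTheory.Flat.EquationalCriterion
import Mathlib.RingTheory.Flat.Localization
import Mathlib.Algebra.Module.LocalizedModule.Int

/-!
# Flatness over rings in which a non-zero-divisor behaves as in a valuation ring
-/

set_option autoImplicit false
universe u

namespace Groth.Agent.Flattening12

variable {R : Type u} [CommRing R]

/-- Every element is divisible by `f ^ n` or divides it. -/
def IsValuativeAt (f : R) : Prop :=
  f ∈ nonZeroDivisors R ∧ ∀ (x : R) (n : ℕ), f ^ n ∣ x ∨ x ∣ f ^ n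

variable {f : R}

theorem IsValuativeAt.mem_nzd (hf : IsValuativeAt f) {c : R} {n : ℕ} (hc : c ∣ f ^ n) :
    c ∈ nonZeroDivisors R := by
  obtain ⟨d, hd⟩ := hc
  exact (mul_mem_nonZeroDivisors.mp (hd ▸ pow_mem hf.1 n)).1

theorem IsValuativeAt.dvd_or_dvd (hf : IsValuativeAt f) {c : R} {n : ℕ} (hc : c ∣ f ^ n) (x : R) :
    c ∣ x ∨ x ∣ c := by
  obtain ⟨d, hd⟩ := hc
  have hdn : d ∈ nonZeroDivisors R := hf.mem_nzd (n := n) ⟨c, by rw [hd, mul_comm]⟩
  rcases hf.2 (x * d) n with ⟨w, hw⟩ | ⟨w, hw⟩
  · refine Or.inl ⟨w, sub_eq_zero.mp (mem_nonZeroDivisors_iff_right.mp hdn _ ?_)⟩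
    rw [sub_mul, hw, hd]; ring
  · refine Or.inr ⟨w, sub_eq_zero.mp (mem_nonZeroDivisors_iff_right.mp hdn _ ?_)⟩
    rw [sub_mul, ← hd, hw]; ring

/-- In a finite family some member, or `f ^ n`, divides everything. -/
theorem IsValuativeAt.exists_dvd_all (hf : IsValuativeAt f) (n : ℕ) {κ : Type*} (s : Finset κ) (x : κ → R) :
    (∀ k ∈ s, f ^ n ∣ x k) ∨ ∃ k ∈ s, x k ∣ f ^ n ∧ ∀ l ∈ s, x k ∣ x l := by
  classical
  induction s using Finset.induction with
  | empty => exact Or.inl fun k hk => by simp at hk
  | insert a s _ ih =>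
    rcases ih with h | ⟨k, hk, hkn, hkl⟩
    · rcases hf.2 (x a) n with ha | ha
      · exact Or.inl fun l hl => (Finset.mem_insert.mp hl).elim (fun e => e ▸ ha) (h l)
      · exact Or.inr ⟨a, Finset.mem_insert_self _ _, ha, fun l hl => (Finset.mem_insert.mp hl).elim
          (fun e => e ▸ dvd_rfl) fun hl => ha.trans (h l hl)⟩
    · rcases hf.dvd_or_dvd hkn (x a) with ha | ha
      · exact Or.inr ⟨k, Finset.mem_insert_of_mem hk, hkn, fun l hl => (Finset.mem_insert.mp hl).elim
          (fun e => e ▸ ha) (hkl l)⟩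
      · exact Or.inr ⟨a, Finset.mem_insert_self _ _, ha.trans hkn, fun l hl => (Finset.mem_insert.mp hl).elim
          (fun e => e ▸ dvd_rfl) fun hl => ha.trans (hkl l hl)⟩

variable {M : Type*} [AddCommGroup M] [Module R M]

theorem regular_of_dvd_pow (hM : IsSMulRegular M f) {c : R} {n : ℕ}
    (hc : c ∣ f ^ n) : IsSMulRegular M c := by
  obtain ⟨d, hd⟩ := hc
  intro p q h
  refine hM.pow n ?_
  simp only [hd, mul_comm c d, mul_smul] at h ⊢
  rw [h]

/-- `f`-saturated relation submodules stay saturated on an `f`-regular module. -/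
theorem IsValuativeAt.exists_combination (hf : IsValuativeAt f) (hM : IsSMulRegular M f) {ι : Type*} [Fintype ι]
    {K : Submodule R (ι → R)} (hK : ∀ (c : R) (n : ℕ) (v : ι → R), c ∣ f ^ n → c • v ∈ K → v ∈ K) (N : ℕ) :
    ∀ (k : ℕ) (r : Fin k → ι → R) (y : Fin k → M) (m : ι → M), (∀ j, r j ∈ K) →
      (∀ i, f ^ N • m i = ∑ j, r j i • y j) →
      ∃ (l : ℕ) (r' : Fin l → ι → R) (y' : Fin l → M), (∀ j, r' j ∈ K) ∧ ∀ i, m i = ∑ j, r' j i • y' j := by
  intro k
  induction k with
  | zero =>
    intro r y m _ hm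
    exact ⟨0, r, y, fun j => j.elim0, fun i => hM.pow N (by simpa using hm i)⟩
  | succ k ih =>
    intro r y m hr hm
    rcases hf.exists_dvd_all N (Finset.univ : Finset (Fin (k + 1) × ι)) (fun p => r p.1 p.2) with h | h
    · choose r' hr' using fun j i => h (j, i) (Finset.mem_univ _)
      refine ⟨k + 1, r', y, fun j => hK (f ^ N) N _ dvd_rfl ?_, fun i => hM.pow N ?_⟩
      · convert hr j using 1
        ext i
        exact (hr' j i).symm
      · show f ^ N • m i = f ^ N • _
        rw [hm i, Finset.smul_sum]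
        exact Finset.sum_congr rfl fun j _ => by rw [smul_smul, ← hr' j i]
    · obtain ⟨⟨j₀, i₀⟩, -, hcn, hc⟩ := h
      set c := r j₀ i₀
      choose e he using fun j => hc (j, i₀) (Finset.mem_univ _)
      choose v hv using fun i => hc (j₀, i) (Finset.mem_univ _)
      obtain ⟨d, hd⟩ := hcn
      have hcr : IsSMulRegular M c := regular_of_dvd_pow hM ⟨d, hd⟩
      have hvK : v ∈ K := hK c N v ⟨d, hd⟩ (by
        convert hr j₀ using 1; ext i; exact (hv i).symm)
      have hY : ∑ j, e j • y j = d • m i₀ := hcr (by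
        show c • _ = c • _
        rw [smul_smul, ← hd, hm i₀, Finset.smul_sum]
        exact Finset.sum_congr rfl fun j _ => by rw [smul_smul, ← he j])
      have he0 : e j₀ = 1 := by
        refine (sub_eq_zero.mp (mem_nonZeroDivisors_iff_right.mp (hf.mem_nzd (n := N) ⟨d, hd⟩) _ ?_))
        rw [sub_mul, one_mul, mul_comm, ← he j₀, sub_self]
      let r' : Fin k → ι → R := fun j => r (j₀.succAbove j) - e (j₀.succAbove j) • r j₀
      obtain ⟨l, r'', y'', hr'', hm''⟩ := ih r' (fun j => y (j₀.succAbove j)) (fun i => m i - v i • m i₀)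
        (fun j => K.sub_mem (hr _) (K.smul_mem _ (hr _))) (fun i => by
          have h1 : f ^ N • (v i • m i₀) = ∑ j, (e j * r j₀ i) • y j := by
            have h2 : r j₀ i • d • m i₀ = f ^ N • (v i • m i₀) := by
              rw [hd, show r j₀ i = c * v i from hv i, smul_smul, smul_smul]
              congr 1; ring
            rw [← h2, ← hY, Finset.smul_sum]
            exact Finset.sum_congr rfl fun j _ => by rw [smul_smul, mul_comm]
          rw [smul_sub, hm i, h1, ← Finset.sum_sub_distrib, Fin.sum_univ_succAbove _ j₀, he0, one_mul, sub_self,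
            zero_add]
          exact Finset.sum_congr rfl fun j _ => by rw [← sub_smul]; rfl)
      refine ⟨l + 1, Fin.cons v r'', Fin.cons (m i₀) y'', fun j => ?_, fun i => ?_⟩
      · cases j using Fin.cases with
        | zero => simpa using hvK
        | succ j => simpa using hr'' j
      · rw [Fin.sum_univ_succ]
        simp only [Fin.cons_zero, Fin.cons_succ]
        rw [← hm'' i, add_sub_cancel]

/-- Flatness over a ring with a valuative element is checked after inverting it. -/
theorem IsValuativeAt.flat_of_regular {M : Type u} [AddCommGroup M] [Module R M] (hf : IsValuativeAt f)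
    (hM : IsSMulRegular M f) (hflat : Module.Flat R (LocalizedModule (Submonoid.powers f) M)) :
    Module.Flat R M := by
  classical
  refine Module.Flat.of_forall_isTrivialRelation fun {l} a x hax => ?_
  let S := Submonoid.powers f
  let lM := LocalizedModule.mkLinearMap S M
  obtain ⟨k, b, y, hxy, hab⟩ := Module.Flat.isTrivialRelation_of_sum_smul_eq_zero (f := a) (x := lM ∘ x) (by
    simp only [Function.comp_apply, ← map_smul, ← map_sum, hax, map_zero])
  obtain ⟨⟨s, e, rfl⟩, hs⟩ := IsLocalizedModule.exist_integer_multiples_of_finset S lM (Finset.univ.image y)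
  choose y' hy' using fun j => hs (y j) (Finset.mem_image_of_mem y (Finset.mem_univ j))
  have hinj : Function.Injective lM := fun p q h => by
    obtain ⟨⟨_, n, rfl⟩, hn⟩ := (IsLocalizedModule.eq_iff_exists S lM).mp h
    exact hM.pow n hn
  let K : Submodule R (Fin l → R) := LinearMap.ker (∑ i, a i • (LinearMap.proj i : (Fin l → R) →ₗ[R] R))
  have hK : ∀ v : Fin l → R, v ∈ K ↔ ∑ i, a i * v i = 0 := fun v => by simp [K]
  obtain ⟨n, r, z, hr, hz⟩ := hf.exists_combination hM (K := K) (fun c n v hc hv => by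
    rw [hK] at hv ⊢
    refine mem_nonZeroDivisors_iff_right.mp (hf.mem_nzd hc) _ ?_
    rw [← hv, Finset.sum_mul]
    exact Finset.sum_congr rfl fun i _ => by simp only [Pi.smul_apply, smul_eq_mul]; ring)
    e k (fun j i => b i j) y' x (fun j => (hK _).mpr (hab j)) (fun i => hinj (by
      rw [map_smul, map_sum]
      have := hxy i
      simp only [Function.comp_apply] at this
      rw [this, Finset.smul_sum]
      refine Finset.sum_congr rfl fun j _ => ?_
      rw [map_smul, hy' j, smul_comm]))
  exact ⟨n, fun i j => r j i, z, hz, fun j => (hK _).mp (hr j)⟩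

end Groth.Agent.Flattening12
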