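import Groth.Agent.Flattening12.Models
import Groth.Agent.Flattening12.Chart
import Groth.Agent.Flattening12.Valuative
import Groth.Agent.FlatLimHx.Alg
import Mathlib.Algebra.Colimit.DirectLimit

/-!
# The ring at a point of the inverse limit of admissible blowings up is valuative
-/

set_option autoImplicit false
set_option linter.style.haveILetI false
universe u

open CategoryTheory Limits AlgebraicGeometry TopologicalSpace

namespace Groth.Agent.Flattening12

variable {S : Scheme.{u}} {U : S.Opens}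

/-- A compatible system of points. -/
structure LimPoint (U : S.Opens) where
  pt : ∀ C : Model U, C.sch
  compat : ∀ {C D : Model U} (h : C ≤ D), Model.hom h (pt D) = pt C

/-- A neighbourhood of a limit point above a given affine. -/
structure Nbhd (z : LimPoint U) {C₀ : Model U} (V : C₀.sch.affineOpens) where
  D : Model U
  le : C₀ ≤ D
  W : D.sch.affineOpens
  mem : z.pt D ∈ W.1
  map_le : W.1 ≤ Model.hom le ⁻¹ᵁ V.1

namespace Nbhd

variable {z : LimPoint U} {C₀ : Model U} {V : C₀.sch.affineOpens}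

/-- `j` is a smaller neighbourhood on a higher model. -/
structure Below (i j : Nbhd z V) : Prop where
  D_le : i.D ≤ j.D
  W_le : j.W.1 ≤ Model.hom D_le ⁻¹ᵁ i.W.1

theorem le_preimage_hom_refl (C : Model U) (O : C.sch.Opens) : O ≤ Model.hom (le_refl C) ⁻¹ᵁ O := by
  intro x hx
  show Model.hom _ x ∈ O
  rw [Model.hom_id]
  exact hx

instance : Preorder (Nbhd z V) where
  le := Below
  le_refl i := ⟨le_rfl, le_preimage_hom_refl i.D i.W.1⟩
  le_trans i j k h₁ h₂ := ⟨h₁.D_le.trans h₂.D_le, fun x hx => by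
    show Model.hom _ x ∈ i.W.1
    rw [← Model.hom_comp_apply h₁.D_le h₂.D_le x]
    exact h₁.W_le (h₂.W_le hx)⟩

theorem exists_above (i : Nbhd z V) {D : Model U} (h : i.D ≤ D) (O : D.sch.Opens) (hO : z.pt D ∈ O) :
    ∃ (W : D.sch.affineOpens) (hm : z.pt D ∈ W.1) (hl : W.1 ≤ Model.hom (i.le.trans h) ⁻¹ᵁ V.1),
      i ≤ ⟨D, i.le.trans h, W, hm, hl⟩ ∧ W.1 ≤ O := by
  obtain ⟨_, ⟨W, hW, rfl⟩, hzW, hWle⟩ := D.sch.isBasis_affineOpens.exists_subset_of_mem_open
    (show z.pt D ∈ ((O ⊓ Model.hom h ⁻¹ᵁ i.W.1 : D.sch.Opens) : Set D.sch) from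
      ⟨hO, show Model.hom h (z.pt D) ∈ i.W.1 from (z.compat h).symm ▸ i.mem⟩)
    (O ⊓ Model.hom h ⁻¹ᵁ i.W.1).isOpen
  refine ⟨⟨W, hW⟩, hzW, fun x hx => ?_, ⟨h, fun x hx => (hWle hx).2⟩, fun x hx => (hWle hx).1⟩
  show Model.hom _ x ∈ V.1
  rw [← Model.hom_comp_apply i.le h x]
  exact i.map_le (hWle hx).2

instance isDirectedOrder : IsDirectedOrder (Nbhd z V) := by
  refine ⟨fun i j => ?_⟩
  obtain ⟨D, hiD, hjD⟩ := exists_ge_ge i.D j.D
  obtain ⟨W, hm, hl, hik, hk⟩ := exists_above i hiD (Model.hom hjD ⁻¹ᵁ j.W.1)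
    (show Model.hom hjD (z.pt D) ∈ j.W.1 from (z.compat hjD).symm ▸ j.mem)
  exact ⟨_, hik, ⟨hjD, hk⟩⟩

/-- The ring of a neighbourhood. -/
abbrev ring (i : Nbhd z V) : Type u := Γ(i.D.sch, i.W.1)

noncomputable instance algebra (i : Nbhd z V) : Algebra Γ(C₀.sch, V.1) i.ring :=
  ((Model.hom i.le).appLE V.1 i.W.1 i.map_le).hom.toAlgebra

theorem algebraMap_apply (i : Nbhd z V) (a : Γ(C₀.sch, V.1)) :
    algebraMap Γ(C₀.sch, V.1) i.ring a = (Model.hom i.le).appLE V.1 i.W.1 i.map_le a := rfl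

theorem appLE_congr {X Y : Scheme.{u}} {h h' : X ⟶ Y} (e : h = h') {O : Y.Opens} {W : X.Opens} (e₁ : W ≤ h ⁻¹ᵁ O)
    (e₂ : W ≤ h' ⁻¹ᵁ O) : h.appLE O W e₁ = h'.appLE O W e₂ := by subst e; rfl

theorem appLE_trans {i j : Nbhd z V} (h : i.D ≤ j.D) (e : j.W.1 ≤ Model.hom h ⁻¹ᵁ i.W.1) {X : Scheme.{u}}
    {g : i.D.sch ⟶ X} {g' : j.D.sch ⟶ X} (hg : Model.hom h ≫ g = g') {O : X.Opens} (e₁ : i.W.1 ≤ g ⁻¹ᵁ O)
    (e₂ : j.W.1 ≤ g' ⁻¹ᵁ O) :
    g.appLE O i.W.1 e₁ ≫ (Model.hom h).appLE i.W.1 j.W.1 e = g'.appLE O j.W.1 e₂ := by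
  rw [Scheme.Hom.appLE_comp_appLE]
  exact appLE_congr hg _ _

/-- The transition maps. -/
noncomputable def map (i j : Nbhd z V) (h : i ≤ j) : i.ring →ₐ[Γ(C₀.sch, V.1)] j.ring :=
  { ((Model.hom h.D_le).appLE i.W.1 j.W.1 h.W_le).hom with
    commutes' := fun a => congr($(appLE_trans h.D_le h.W_le (Model.hom_comp i.le h.D_le) i.map_le j.map_le).hom a) }

theorem map_apply {i j : Nbhd z V} (h : i ≤ j) (a : i.ring) :
    map i j h a = (Model.hom h.D_le).appLE i.W.1 j.W.1 h.W_le a := rfl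

theorem map_self (i : Nbhd z V) (a : i.ring) : map i i le_rfl a = a := by
  have hid : Model.hom (le_refl i.D) = 𝟙 i.D.sch := (Model.hom_unique _ (Category.id_comp _)).symm
  rw [map_apply, appLE_congr hid _ (by simp)]
  simp only [Scheme.Hom.appLE, Scheme.Hom.id_app, Category.id_comp]
  exact congr($((i.D.sch.presheaf.map_id (Opposite.op i.W.1))).hom a)

theorem map_map {i j k : Nbhd z V} (hij : i ≤ j) (hjk : j ≤ k) (a : i.ring) :
    map j k hjk (map i j hij a) = map i k (hij.trans hjk) a :=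
  congr($(appLE_trans hjk.D_le hjk.W_le (Model.hom_comp hij.D_le hjk.D_le) hij.W_le (hij.trans hjk).W_le).hom a)

instance : DirectedSystem (ring (z := z) (V := V)) (map · · ·) :=
  ⟨fun i a => map_self i a, fun _ _ _ hij hjk a => map_map hij hjk a⟩

variable (z V)

/-- The ring at the point. -/
abbrev limRing : Type u := _root_.DirectLimit (ring (z := z) (V := V)) map

theorem nonempty (hV : z.pt C₀ ∈ V.1) : Nonempty (Nbhd z V) :=
  ⟨⟨C₀, le_rfl, V, hV, fun x hx => show Model.hom _ x ∈ V.1 from (Model.hom_id x).symm ▸ hx⟩⟩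

variable {z V} [Nonempty (Nbhd z V)]

/-- The maps to the ring at the point. -/
noncomputable def toLim (i : Nbhd z V) : i.ring →ₐ[Γ(C₀.sch, V.1)] limRing z V where
  toFun a := ⟦⟨i, a⟩⟧
  map_one' := (DirectLimit.one_def i).symm
  map_mul' a b := (DirectLimit.mul_def i a b).symm
  map_zero' := (DirectLimit.zero_def i).symm
  map_add' a b := (DirectLimit.add_def i a b).symm
  commutes' a := (DirectLimit.algebraMap_def i a).symm

theorem isColim : FlatLimHx.IsColim (map (z := z) (V := V)) toLim where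
  dir := inferInstance
  ne := inferInstance
  self := map_self
  comp _ _ _ hij hjk a := map_map hij hjk a
  compat i j h a := (DirectLimit.eq_of_le ⟨i, a⟩ j h).symm
  surj y := by
    obtain ⟨i, a, rfl⟩ := DirectLimit.exists_eq_mk _ y
    exact ⟨i, a, rfl⟩
  zero i a ha := (DirectLimit.exists_eq_zero ⟨i, a⟩).mp ha

variable {f : Γ(C₀.sch, V.1)} (hf : C₀.exc.ideal V = Ideal.span {f})

include hf in
theorem algebraMap_mem_nzd (i : Nbhd z V) : algebraMap _ i.ring f ∈ nonZeroDivisors i.ring := by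
  refine ModPairLib.generator_mem_nonZeroDivisors (Model.isEffCartier_exc_comap i.le) (W := i.W) ?_
  rw [ModPairLib.ideal_comap _ _ V i.W i.map_le, hf, Ideal.map_span, Set.image_singleton]
  rfl

include hf in
theorem toLim_gen_mem_nzd {i : Nbhd z V} {c : i.ring}
    (hc : i.D.exc.ideal i.W = Ideal.span {c}) : toLim i c ∈ nonZeroDivisors (limRing z V) := by
  refine mem_nonZeroDivisors_iff_right.mpr fun y hy => ?_
  obtain ⟨j, b, rfl⟩ := (isColim (z := z) (V := V)).surj y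
  obtain ⟨k, hik, hjk⟩ := exists_ge_ge i j
  rw [← (isColim (z := z) (V := V)).compat i k hik, ← (isColim (z := z) (V := V)).compat j k hjk, ← map_mul] at hy
  obtain ⟨l, hkl, hl⟩ := (isColim (z := z) (V := V)).zero k _ hy
  rw [map_mul, map_map, map_map] at hl
  have hnz : map i l (hik.trans hkl) c ∈ nonZeroDivisors l.ring := by
    refine ModPairLib.generator_mem_nonZeroDivisors (Model.isEffCartier_exc_comap (hik.trans hkl).D_le) (W := l.W) ?_
    rw [ModPairLib.ideal_comap _ _ i.W l.W (hik.trans hkl).W_le, hc, Ideal.map_span, Set.image_singleton]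
    rfl
  rw [← (isColim (z := z) (V := V)).compat j l (hjk.trans hkl),
    mem_nonZeroDivisors_iff_right.mp hnz _ hl, map_zero]

theorem toLim_isUnit {i : Nbhd z V} {a : i.ring} (ha : z.pt i.D ∈ i.D.sch.basicOpen a) : IsUnit (toLim i a) := by
  obtain ⟨W, hm, hl, hij, hj⟩ := exists_above i (le_refl i.D) (i.D.sch.basicOpen a) ha
  let j : Nbhd z V := ⟨i.D, _, W, hm, hl⟩
  rw [← (isColim (z := z) (V := V)).compat i j hij]
  refine IsUnit.map _ ?_
  rw [map_apply]
  refine (j.D.sch.toRingedSpace.isUnit_of_isUnit_germ j.W.1 _ fun x hx => ?_)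
  refine (Scheme.mem_basicOpen (X := j.D.sch) _ x hx).mp ?_
  rw [Scheme.basicOpen_appLE]
  refine ⟨hx, ?_⟩
  show Model.hom hij.D_le x ∈ i.D.sch.basicOpen a
  rw [Model.hom_id]
  exact hj hx

/-- Dichotomy for a standard generator of the exceptional ideal. -/
theorem exists_dichotomy [CompactSpace S] [QuasiSeparatedSpace S] (i : Nbhd z V) (Vs : S.affineOpens)
    (hz : i.D.str (z.pt i.D) ∈ Vs.1) :
    ∃ (j : Nbhd z V) (_ : i ≤ j) (c : j.ring), j.D.exc.ideal j.W = Ideal.span {c} ∧ j.D = i.D ∧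
      ∀ (y : j.ring) (m : ℕ), toLim j c ^ m ∣ toLim j y ∨ toLim j y ∣ toLim j c ^ m := by
  obtain ⟨c₀, hc₀, W₁, e₁, hzW₁, hW₁, hfrac⟩ := exists_standard_chart i.D.isBlowUp Vs hz
  obtain ⟨r₀, hr₀, hzr₀⟩ := W₁.2.exists_basicOpen_le
    (V := W₁.1 ⊓ i.W.1) ⟨z.pt i.D, ⟨hzW₁, i.mem⟩⟩ hzW₁
  let W₂ : i.D.sch.affineOpens := ⟨i.D.sch.basicOpen r₀, W₁.2.basicOpen r₀⟩
  have h₂₁ : W₂.1 ≤ W₁.1 := i.D.sch.basicOpen_le r₀
  have h₂i : W₂.1 ≤ i.W.1 := hr₀.trans inf_le_right
  let j : Nbhd z V := ⟨i.D, i.le, W₂, hzr₀, h₂i.trans i.map_le⟩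
  have hij : i ≤ j := ⟨le_rfl, fun x hx => show Model.hom _ x ∈ i.W.1 from (Model.hom_id x).symm ▸ h₂i hx⟩
  let φ : Γ(S, Vs.1) →+* j.ring := (i.D.str.appLE Vs.1 W₂.1 (h₂₁.trans e₁)).hom
  let c : j.ring := φ c₀
  have hexc : j.D.exc.ideal j.W = Ideal.span {c} := by
    show i.D.exc.ideal W₂ = _
    rw [← i.D.exc.map_ideal (U := W₂) (V := W₁) h₂₁]
    rw [show i.D.exc.ideal W₁ = _ from hW₁, Ideal.map_span, Set.image_singleton]
    congr 1
    show ({(i.D.sch.presheaf.map (homOfLE h₂₁).op).hom (i.D.str.appLE Vs.1 W₁.1 e₁ c₀)} : Set j.ring) = {φ c₀}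
    congr 1
    exact congr($(Scheme.Hom.appLE_map i.D.str e₁ (homOfLE h₂₁).op).hom c₀)
  have hcR : toLim j c ∈ nonZeroDivisors (limRing z V) := by
    refine mem_nonZeroDivisors_iff_right.mpr fun y hy => ?_
    obtain ⟨k, b, rfl⟩ := (isColim (z := z) (V := V)).surj y
    obtain ⟨l, hjl, hkl⟩ := exists_ge_ge j k
    rw [← (isColim (z := z) (V := V)).compat j l hjl, ← (isColim (z := z) (V := V)).compat k l hkl, ← map_mul] at hy
    obtain ⟨n, hln, hn⟩ := (isColim (z := z) (V := V)).zero l _ hy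
    rw [map_mul, map_map, map_map] at hn
    have hnz : map j n (hjl.trans hln) c ∈ nonZeroDivisors n.ring := by
      refine ModPairLib.generator_mem_nonZeroDivisors (Model.isEffCartier_exc_comap (hjl.trans hln).D_le) (W := n.W) ?_
      rw [ModPairLib.ideal_comap _ _ j.W n.W (hjl.trans hln).W_le, hexc, Ideal.map_span, Set.image_singleton]
      rfl
    rw [← (isColim (z := z) (V := V)).compat k n (hkl.trans hln),
      mem_nonZeroDivisors_iff_right.mp hnz _ hn, map_zero]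
  refine ⟨j, hij, c, hexc, rfl, fun y m => ?_⟩
  haveI := W₁.2.isLocalization_basicOpen r₀
  obtain ⟨⟨a₁, ⟨_, k, rfl⟩⟩, ha₁⟩ := IsLocalization.surj (Submonoid.powers r₀) (y : Γ(i.D.sch, W₂.1))
  obtain ⟨d, x, hx, hax⟩ := hfrac a₁
  -- `y * u * c ^ d = φ x` with `u` invertible at the point
  set ρ : Γ(i.D.sch, W₁.1) →+* j.ring := (i.D.sch.presheaf.map (homOfLE h₂₁).op).hom
  have hu : IsUnit (toLim j (ρ r₀)) := by
    refine (IsUnit.map _ ?_)
    exact i.D.sch.toRingedSpace.isUnit_res_basicOpen r₀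
  have hρ : ∀ s : Γ(S, Vs.1), ρ (i.D.str.appLE Vs.1 W₁.1 e₁ s) = φ s := fun s => by
    simp only [ρ, φ, ← CommRingCat.comp_apply, Scheme.Hom.appLE_map]
  have hkey : y * ρ r₀ ^ k * c ^ d = φ x := by
    have h := congrArg ρ hax
    rw [map_mul, map_pow, hρ, hρ] at h
    rw [← h]
    congr 1
    rw [← map_pow]
    exact ha₁
  -- the extended ideal
  let K : Ideal Γ(S, Vs.1) := Ideal.span {x} ⊔ i.D.centre.ideal Vs ^ (d + m)
  obtain ⟨K', hK', hKs, hKV⟩ := exists_extension i.D Vs K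
    ((Submodule.fg_span_singleton x).sup (i.D.fg Vs).pow) (d + m) le_sup_right
  obtain ⟨hiD, hKc⟩ := Model.le_mul (C := i.D) K' hK' hKs
  let D' := i.D.mul K' hK' hKs
  obtain ⟨U₁, hzU₁, g, hg0, hg⟩ := hKc (z.pt D')
  obtain ⟨Wl, hzl, hmaple, hjl, hl⟩ := exists_above j (D := D') hiD U₁.1 hzU₁
  let l : Nbhd z V := ⟨D', _, Wl, hzl, hmaple⟩
  have hle : Wl.1 ≤ D'.str ⁻¹ᵁ Vs.1 := fun q hq => by
    show D'.str q ∈ Vs.1
    rw [← Model.hom_str hjl.D_le]
    exact (h₂₁.trans e₁) (hjl.W_le hq)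
  let ψ : Γ(S, Vs.1) →+* l.ring := (D'.str.appLE Vs.1 Wl.1 hle).hom
  have hψ : ∀ s, toLim l (ψ s) = toLim j (φ s) := fun s => by
    rw [← (isColim (z := z) (V := V)).compat j l hjl]
    exact congrArg (toLim l)
      (congr($(appLE_trans (i := j) (j := l) hjl.D_le hjl.W_le (Model.hom_str hjl.D_le) (h₂₁.trans e₁) hle).hom s)).symm
  obtain ⟨g', hg'⟩ : ∃ g' : l.ring, (K'.comap D'.str).ideal Wl = Ideal.span {g'} :=
    ⟨(D'.sch.presheaf.map (homOfLE hl).op).hom g, by
      rw [← (K'.comap D'.str).map_ideal (U := Wl) (V := U₁) hl, hg, Ideal.map_span,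
        Set.image_singleton]; rfl⟩
  have hmapK : (Ideal.span {x} ⊔ i.D.centre.ideal Vs ^ (d + m)).map ψ = Ideal.span {g'} := by
    rw [← hg', ModPairLib.ideal_comap _ _ Vs Wl hle, hKV]
  have hCc : ∀ s ∈ i.D.centre.ideal Vs, map j l hjl c ∣ ψ s := fun s hs => by
    have hmem : (φ s) ∈ j.D.exc.ideal j.W := by
      show i.D.str.appLE Vs.1 W₂.1 _ s ∈ (i.D.centre.comap i.D.str).ideal W₂
      rw [ModPairLib.ideal_comap _ _ Vs W₂ (h₂₁.trans e₁)]
      exact Ideal.mem_map_of_mem _ hs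
    rw [hexc, Ideal.mem_span_singleton] at hmem
    have := map_dvd (map j l hjl) hmem
    rwa [show map j l hjl (φ s) = ψ s from
      congr($(appLE_trans (i := j) (j := l) hjl.D_le hjl.W_le (Model.hom_str hjl.D_le) (h₂₁.trans e₁) hle).hom s)] at this
  have hc' : map j l hjl c = ψ c₀ :=
    congr($(appLE_trans (i := j) (j := l) hjl.D_le hjl.W_le (Model.hom_str hjl.D_le) (h₂₁.trans e₁) hle).hom c₀)
  have hpow : (i.D.centre.ideal Vs ^ (d + m)).map ψ = Ideal.span {ψ c₀ ^ (d + m)} := by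
    rw [Ideal.map_pow, ← Ideal.span_singleton_pow]
    congr 1
    exact le_antisymm (Ideal.map_le_iff_le_comap.mpr fun s hs => Ideal.mem_span_singleton.mpr (hc' ▸ hCc s hs))
      ((Ideal.span_singleton_le_iff_mem _).mpr (Ideal.mem_map_of_mem _ hc₀))
  rw [Ideal.map_sup, Ideal.map_span, Set.image_singleton, hpow] at hmapK
  obtain ⟨s, hs⟩ := Ideal.mem_span_singleton'.mp
    (hmapK.le (Submodule.mem_sup_left (Ideal.mem_span_singleton_self (ψ x))))
  obtain ⟨t, ht⟩ := Ideal.mem_span_singleton'.mp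
    (hmapK.le (Submodule.mem_sup_right (Ideal.mem_span_singleton_self (ψ c₀ ^ (d + m)))))
  obtain ⟨p₀, hp₀, q₀, hq₀, hpq⟩ := Submodule.mem_sup.mp (hmapK.ge (Ideal.mem_span_singleton_self g'))
  obtain ⟨p, rfl⟩ := Ideal.mem_span_singleton'.mp hp₀
  obtain ⟨q, rfl⟩ := Ideal.mem_span_singleton'.mp hq₀
  have hg'nz : g' ∈ nonZeroDivisors l.ring := ModPairLib.generator_mem_nonZeroDivisors hKc hg'
  have hone : p * s + q * t = 1 := sub_eq_zero.mp (mem_nonZeroDivisors_iff_right.mp hg'nz _ (by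
    rw [sub_mul, one_mul, add_mul, mul_assoc, hs, mul_assoc, ht, hpq, sub_self]))
  -- translate into the ring at the point
  have hxR : toLim j y * toLim j (ρ r₀) ^ k * toLim j c ^ d = toLim l g' * toLim l s := by
    rw [← map_pow (toLim j) (ρ r₀) k, ← map_pow (toLim j) c d, ← map_mul, ← map_mul, hkey,
      ← map_mul, mul_comm g' s, hs, hψ]
  have hcRpow : toLim j c ^ (d + m) = toLim l g' * toLim l t := by
    rw [← map_mul, mul_comm g' t, ht, map_pow, hψ]
  have hst : z.pt D' ∈ D'.sch.basicOpen s ∨ z.pt D' ∈ D'.sch.basicOpen t := by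
    by_contra hn
    rw [not_or, Scheme.mem_basicOpen _ _ _ hzl, Scheme.mem_basicOpen _ _ _ hzl] at hn
    have h1 := congrArg (D'.sch.presheaf.germ Wl.1 (z.pt D') hzl).hom hone
    rw [map_add, map_mul, map_mul, map_one] at h1
    exact (IsLocalRing.maximalIdeal (D'.sch.presheaf.stalk (z.pt D'))).ne_top_iff_one.mp
      (IsLocalRing.maximalIdeal.isMaximal _).ne_top
      (h1 ▸ Ideal.add_mem _ (Ideal.mul_mem_left _ _ hn.1) (Ideal.mul_mem_left _ _ hn.2))
  have hcd : toLim j c ^ d ∈ nonZeroDivisors (limRing z V) := pow_mem hcR d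
  rcases hst with hs' | ht'
  · obtain ⟨v, hv⟩ := (toLim_isUnit (i := l) hs').exists_right_inv
    refine Or.inr ⟨toLim j (ρ r₀) ^ k * (toLim l t * v), ?_⟩
    refine mul_cancel_left_mem_nonZeroDivisors hcd |>.mp ?_
    calc toLim j c ^ d * toLim j c ^ m = toLim l g' * toLim l t * (toLim l s * v) := by
          rw [← pow_add, hcRpow, hv, mul_one]
      _ = toLim j y * toLim j (ρ r₀) ^ k * toLim j c ^ d * (toLim l t * v) := by rw [hxR]; ring
      _ = _ := by ring
  · obtain ⟨v, hv⟩ := (toLim_isUnit (i := l) ht').exists_right_inv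
    obtain ⟨w, hw⟩ := (hu.pow k).exists_right_inv
    refine Or.inl ⟨toLim l s * v * w, ?_⟩
    refine mul_cancel_left_mem_nonZeroDivisors hcd |>.mp ?_
    calc toLim j c ^ d * toLim j y = toLim j y * toLim j (ρ r₀) ^ k * toLim j c ^ d * w := by
          rw [show toLim j y * toLim j (ρ r₀) ^ k * toLim j c ^ d * w
            = toLim j y * toLim j c ^ d * (toLim j (ρ r₀) ^ k * w) by ring, hw]; ring
      _ = toLim l g' * toLim l s * w * (toLim l t * v) := by rw [hxR, hv, mul_one]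
      _ = toLim j c ^ (d + m) * (toLim l s * v * w) := by rw [hcRpow]; ring
      _ = _ := by ring

include hf in
/-- The ring at the point is valuative at the equation of the exceptional divisor. -/
theorem isValuativeAt [CompactSpace S] [QuasiSeparatedSpace S] :
    IsValuativeAt (algebraMap Γ(C₀.sch, V.1) (limRing z V) f) := by
  have hcol := isColim (z := z) (V := V)
  obtain ⟨i₀⟩ := ‹Nonempty (Nbhd z V)›
  refine ⟨mem_nonZeroDivisors_iff_right.mpr fun y hy => ?_, fun x n => ?_⟩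
  · obtain ⟨i, b, rfl⟩ := hcol.surj y
    rw [← (toLim i).commutes f, ← map_mul] at hy
    obtain ⟨j, hij, hj⟩ := hcol.zero i _ hy
    rw [map_mul, AlgHom.commutes] at hj
    rw [← hcol.compat i j hij, mem_nonZeroDivisors_iff_right.mp (algebraMap_mem_nzd hf j) _ hj, map_zero]
  obtain ⟨i, a, rfl⟩ := hcol.surj x
  obtain ⟨_, ⟨Vs, hVs, rfl⟩, hzVs, -⟩ := S.isBasis_affineOpens.exists_subset_of_mem_open
    (Set.mem_univ (i.D.str (z.pt i.D))) isOpen_univ
  obtain ⟨j, hij, c, hc, -, hdich⟩ := exists_dichotomy i ⟨Vs, hVs⟩ hzVs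
  -- on `j` a power of the generator is divisible by the power of the equation
  obtain ⟨N, hN⟩ : ∃ N, algebraMap Γ(C₀.sch, V.1) j.ring f ^ n ∣ c ^ N := by
    set fj := algebraMap Γ(C₀.sch, V.1) j.ring f
    have hfE : (C₀.exc.comap (Model.hom j.le)).ideal j.W = Ideal.span {fj} := by
      rw [ModPairLib.ideal_comap _ _ V j.W j.map_le, hf, Ideal.map_span, Set.image_singleton]
      rfl
    have hbo : j.D.sch.basicOpen c ≤ j.D.sch.basicOpen fj := by
      intro q hq
      have hqW := j.D.sch.basicOpen_le c hq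
      by_contra hqf
      have h1 : q ∈ ((C₀.exc.comap (Model.hom j.le)).support : Set j.D.sch) := (ZBBlow.mem_support_iff hqW).mpr
        fun g hg => by
          rw [hfE, Ideal.mem_span_singleton] at hg
          obtain ⟨r, rfl⟩ := hg
          rw [Scheme.basicOpen_mul]
          exact fun h => hqf h.1
      rw [Model.exc_comap j.le, Model.support_comap, ← Model.support_comap (C := j.D)] at h1
      exact (ZBBlow.mem_support_iff hqW).mp h1 c (hc ▸ Ideal.mem_span_singleton_self c) hq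
    have hp : PrimeSpectrum.basicOpen c ≤ PrimeSpectrum.basicOpen fj := by
      rw [← j.W.2.fromSpec_preimage_basicOpen c, ← j.W.2.fromSpec_preimage_basicOpen fj]
      exact fun q hq => hbo hq
    obtain ⟨N, hN⟩ := (PrimeSpectrum.basicOpen_le_basicOpen_iff c fj).mp hp
    exact ⟨N * n, by rw [pow_mul]; exact pow_dvd_pow_of_dvd (Ideal.mem_span_singleton.mp hN) n⟩
  obtain ⟨w, hw⟩ := hN
  have hwR : toLim j c ^ N = algebraMap _ (limRing z V) f ^ n * toLim j w := by
    rw [← map_pow, hw, map_mul, map_pow, AlgHom.commutes]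
  have hw0 : toLim j w ∈ nonZeroDivisors (limRing z V) := by
    have := pow_mem (toLim_gen_mem_nzd hf hc) N
    rw [hwR] at this
    exact (mul_mem_nonZeroDivisors.mp this).2
  rcases hdich (map i j hij a * w) N with h | h <;>
    rw [map_mul, hcol.compat i j hij, hwR] at h <;> obtain ⟨v, hv⟩ := h
  · refine Or.inl ⟨v, mul_cancel_right_mem_nonZeroDivisors hw0 |>.mp ?_⟩
    rw [hv]; ring
  · refine Or.inr ⟨v, mul_cancel_right_mem_nonZeroDivisors hw0 |>.mp ?_⟩
    rw [hv]; ring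

end Nbhd

end Groth.Agent.Flattening12
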