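import Groth.Agent.Flattening12.Subscheme

/-!
# Flat strict transforms of schemes
-/

set_option linter.style.haveILetI false
set_option autoImplicit false
universe u

open CategoryTheory Limits AlgebraicGeometry TopologicalSpace

namespace Groth.Agent.Flattening12

/-- On all high models the strict transform of a scheme is flat and of finite presentation. -/
theorem exists_model_strictTransform_flat {X S : Scheme.{u}} [CompactSpace S] [QuasiSeparatedSpace S]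
    (f : X ⟶ S) [LocallyOfFiniteType f] [QuasiCompact f] [QuasiSeparated f] (U : S.Opens) (hU : IsCompact (U : Set S))
    [Flat (f ∣_ U)] [LocallyOfFinitePresentation (f ∣_ U)] :
    ∃ C : Model U, ∀ D : Model U, C ≤ D →
      ∀ (X' : Scheme.{u}) (p₁ : X' ⟶ X) (p₂ : X' ⟶ D.sch), IsPullback p₁ p₂ f D.str →
      ∀ (𝒥 : X'.IdealSheafData),
        (∀ (V : X'.affineOpens) (a : Γ(X', V.1)), a ∈ 𝒥.ideal V ↔
          BlowUp.KilledByPowerNear ((D.centre.comap f).comap p₁) (Coh.structureModule X') V a) →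
        Flat (𝒥.subschemeι ≫ p₂) ∧ LocallyOfFinitePresentation (𝒥.subschemeι ≫ p₂) ∧
          QuasiCompact (𝒥.subschemeι ≫ p₂) ∧ QuasiSeparated (𝒥.subschemeι ≫ p₂) := by
  classical
  haveI : CompactSpace X := QuasiCompact.compactSpace_of_compactSpace f
  have hloc : ∀ x : X, ∃ (Vs : S.affineOpens) (P : X.affineOpens), x ∈ P.1 ∧ P.1 ≤ f ⁻¹ᵁ Vs.1 := fun x => by
    obtain ⟨_, ⟨V, hV, rfl⟩, hxV, -⟩ :=
      S.isBasis_affineOpens.exists_subset_of_mem_open (Set.mem_univ (f x)) isOpen_univ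
    obtain ⟨_, ⟨P, hP, rfl⟩, hxP, hPV⟩ :=
      X.isBasis_affineOpens.exists_subset_of_mem_open (show x ∈ f ⁻¹ᵁ V from hxV) (f ⁻¹ᵁ V).2
    exact ⟨⟨V, hV⟩, ⟨P, hP⟩, hxP, hPV⟩
  choose Vs P hxP hPV using hloc
  obtain ⟨t, ht⟩ := isCompact_univ.elim_finite_subcover (fun x => ((P x).1 : Set X)) (fun x => (P x).1.2)
    fun x _ => Set.mem_iUnion.2 ⟨x, hxP x⟩
  have hpres : ∀ x : X, letI : Algebra Γ(S, (Vs x).1) Γ(X, (P x).1) := (f.appLE (Vs x).1 (P x).1 (hPV x)).hom.toAlgebra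
      ∃ (n : ℕ) (α : MvPolynomial (Fin n) Γ(S, (Vs x).1) →ₐ[Γ(S, (Vs x).1)] Γ(X, (P x).1)), Function.Surjective α :=
    fun x => by
      letI : Algebra Γ(S, (Vs x).1) Γ(X, (P x).1) := (f.appLE (Vs x).1 (P x).1 (hPV x)).hom.toAlgebra
      exact Algebra.FiniteType.iff_quotient_mvPolynomial''.mp
        (f.finiteType_appLE (Vs x).2 (P x).2 (hPV x))
  choose n α hα using hpres
  have hmodel : ∀ x : X, ∃ C : Model U, ∀ D : Model U, C ≤ D → ∀ s : D.sch, D.str s ∈ (Vs x).1 →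
      letI : Algebra Γ(S, (Vs x).1) Γ(X, (P x).1) := (f.appLE (Vs x).1 (P x).1 (hPV x)).hom.toAlgebra
      letI : Algebra (MvPolynomial (Fin (n x)) Γ(S, (Vs x).1)) Γ(X, (P x).1) := (α x).toRingHom.toAlgebra
      D.Good (Vs x) (MvPolynomial (Fin (n x)) Γ(S, (Vs x).1)) Γ(X, (P x).1) s := fun x => by
    letI : Algebra Γ(S, (Vs x).1) Γ(X, (P x).1) := (f.appLE (Vs x).1 (P x).1 (hPV x)).hom.toAlgebra
    letI : Algebra (MvPolynomial (Fin (n x)) Γ(S, (Vs x).1)) Γ(X, (P x).1) := (α x).toRingHom.toAlgebra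
    haveI : IsScalarTower Γ(S, (Vs x).1) (MvPolynomial (Fin (n x)) Γ(S, (Vs x).1)) Γ(X, (P x).1) :=
      .of_algebraMap_eq fun a => ((α x).commutes a).symm
    haveI : Module.Finite (MvPolynomial (Fin (n x)) Γ(S, (Vs x).1)) Γ(X, (P x).1) :=
      Module.Finite.of_surjective (Algebra.linearMap _ _) (hα x)
    exact exists_model_forall_good hU fun r hr =>
      localized_good_ring f U (Vs x) (P x).2 (hPV x) rfl _ (hα x) hr
  choose C hC using hmodel
  haveI : Nonempty (Model U) := Model.exists_model hU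
  obtain ⟨D₀, hD₀⟩ := Finset.exists_le (t.image C)
  refine ⟨D₀, fun D hle X' p₁ p₂ sq 𝒥 h𝒥 => ?_⟩
  have hcov : ∀ y : 𝒥.subscheme, ∃ (U' : D.sch.affineOpens) (V : 𝒥.subscheme.affineOpens) (_ : y ∈ V.1)
      (e : V.1 ≤ (𝒥.subschemeι ≫ p₂) ⁻¹ᵁ U'.1),
      ((𝒥.subschemeι ≫ p₂).appLE U'.1 V.1 e).hom.Flat ∧
        ((𝒥.subschemeι ≫ p₂).appLE U'.1 V.1 e).hom.FinitePresentation := fun y => by
    obtain ⟨x, hxt, hx⟩ := Set.mem_iUnion₂.1 (ht (Set.mem_univ (p₁ (𝒥.subschemeι y))))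
    have hs : D.str (p₂ (𝒥.subschemeι y)) ∈ (Vs x).1 := by
      rw [← Scheme.Hom.comp_apply, ← sq.w]
      exact hPV x hx
    letI : Algebra Γ(S, (Vs x).1) Γ(X, (P x).1) := (f.appLE (Vs x).1 (P x).1 (hPV x)).hom.toAlgebra
    letI : Algebra (MvPolynomial (Fin (n x)) Γ(S, (Vs x).1)) Γ(X, (P x).1) := (α x).toRingHom.toAlgebra
    haveI : IsScalarTower Γ(S, (Vs x).1) (MvPolynomial (Fin (n x)) Γ(S, (Vs x).1)) Γ(X, (P x).1) :=
      .of_algebraMap_eq fun a => ((α x).commutes a).symm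
    obtain ⟨Wc, eW, c, hyW, hc, hst⟩ :=
      hC x D ((hD₀ _ (Finset.mem_image_of_mem C hxt)).trans hle) (p₂ (𝒥.subschemeι y)) hs
    obtain ⟨W, -, hWeq, e', h₁, h₂⟩ :=
      strictTransform_ring_good (P x).2 (hPV x) rfl _ (hα x) eW hc hst sq 𝒥 h𝒥
    refine ⟨Wc, ⟨_, W.2.preimage 𝒥.subschemeι⟩, ?_, e', h₁, h₂⟩
    show 𝒥.subschemeι y ∈ W.1
    rw [hWeq]
    exact ⟨hx, hyW⟩
  haveI : QuasiCompact p₂ := MorphismProperty.of_isPullback sq ‹QuasiCompact f›
  haveI : QuasiSeparated p₂ := MorphismProperty.of_isPullback sq ‹QuasiSeparated f›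
  refine ⟨?_, ?_, inferInstance, inferInstance⟩
  · exact (HasRingHomProperty.iff_exists_appLE (P := @Flat) (RingHom.Flat.stableUnderComposition.stableUnderCompositionWithLocalizationAway RingHom.Flat.holdsForLocalizationAway).1).mpr fun y =>
      let ⟨U', V, hy, e, h, _⟩ := hcov y; ⟨U', V, hy, e, h⟩
  · exact (HasRingHomProperty.iff_exists_appLE (P := @LocallyOfFinitePresentation)
      (RingHom.finitePresentation_stableUnderComposition.stableUnderCompositionWithLocalizationAway RingHom.finitePresentation_holdsForLocalizationAway).1).mpr fun y =>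
      let ⟨U', V, hy, e, _, h⟩ := hcov y; ⟨U', V, hy, e, h⟩

end Groth.Agent.Flattening12
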