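import Groth.Agent.BlowUpLib.Glue
import Groth.Agent.BlowUpX.Basic
import Groth.Agent.MdlA1.ZarExtend
import Groth.Agent.ModPairLib.Dense
import Groth.Agent.MorLib.IdealFG2

/-!
# Admissible centres with full support and their blowings up
-/

set_option autoImplicit false
set_option linter.style.haveILetI false
universe u

open CategoryTheory Limits AlgebraicGeometry TopologicalSpace

namespace Groth.Agent.Flattening12

/-- A finite type centre whose support is exactly the complement of `U`. -/
structure Model {S : Scheme.{u}} (U : S.Opens) where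
  centre : S.IdealSheafData
  fg : BlowUp.IsFiniteTypeIdeal centre
  supp : (centre.support : Set S) = (U : Set S)ᶜ

variable {S : Scheme.{u}} {U : S.Opens}

namespace Model

variable (C D : Model U)

/-- A chosen blowing up, kept opaque. -/
noncomputable opaque data : {Y : Over S // BlowUp.IsBlowUp Y.hom C.centre} :=
  ⟨Over.mk (BlowUpLib.exists_blowUp C.centre).choose_spec.choose,
    (BlowUpLib.exists_blowUp C.centre).choose_spec.choose_spec⟩

/-- The blowing up. -/
noncomputable def sch : Scheme.{u} := C.data.1.left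

/-- The structure morphism. -/
noncomputable def str : C.sch ⟶ S := C.data.1.hom

theorem isBlowUp : BlowUp.IsBlowUp C.str C.centre := C.data.2

theorem isAdmissible : BlowUp.IsAdmissibleFor U C.centre :=
  ⟨C.fg, by rw [C.supp]; exact disjoint_compl_left⟩

instance isProper_str : IsProper C.str := BlowUpLib.isProper_of_isBlowUp _ C.isBlowUp C.fg

instance compactSpace_sch [CompactSpace S] : CompactSpace C.sch := QuasiCompact.compactSpace_of_compactSpace C.str

/-- The exceptional ideal. -/
noncomputable def exc : C.sch.IdealSheafData := C.centre.comap C.str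

theorem isEffCartier_exc : BlowUp.IsEffCartierIdeal C.exc := C.isBlowUp.1

/-- `C ≤ D` when the centre of `C` becomes effective Cartier on the blowing up of `D`. -/
def Le : Prop := BlowUp.IsEffCartierIdeal (C.centre.comap D.str)

variable {C D}

/-- The comparison morphism, kept opaque. -/
noncomputable opaque homData (h : C.Le D) : {k : D.sch ⟶ C.sch // k ≫ C.str = D.str} :=
  ⟨(C.isBlowUp.2 D.sch D.str h).exists.choose, (C.isBlowUp.2 D.sch D.str h).exists.choose_spec⟩

/-- The comparison morphism. -/
noncomputable def hom (h : C.Le D) : D.sch ⟶ C.sch := (homData h).1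

theorem hom_str (h : C.Le D) : hom h ≫ C.str = D.str := (homData h).2

theorem hom_unique (h : C.Le D) {k : D.sch ⟶ C.sch} (hk : k ≫ C.str = D.str) : k = hom h :=
  (C.isBlowUp.2 D.sch D.str h).unique hk (hom_str h)

theorem support_comap {Y : Scheme.{u}} (g : Y ⟶ S) :
    ((C.centre.comap g).support : Set Y) = g ⁻¹' (U : Set S)ᶜ := by
  rw [Scheme.IdealSheafData.support_comap]
  show g ⁻¹' (C.centre.support : Set S) = _
  rw [C.supp]

/-- A locally principal pullback is effective Cartier as soon as another one is. -/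
theorem isEffCartier_comap_of {Y : Scheme.{u}} (g : Y ⟶ S) (hC : BlowUp.IsEffCartierIdeal (C.centre.comap g))
    (hD : ModPairLib.IsLocPrincipal (D.centre.comap g)) : BlowUp.IsEffCartierIdeal (D.centre.comap g) := by
  haveI := ModPairLib.isAffineHom_interior (ModPairLib.isLocPrincipal_of_isEffCartier hC)
  haveI := ModPairLib.isSchemeTheoreticallyDominant_interior hC
  refine ModPairLib.isEffCartier_of_dense hD (ModPair.interior (C.centre.comap g)) fun y hy => ?_
  show y ∉ ((D.centre.comap g).support : Set Y)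
  rw [support_comap g, ← support_comap (C := C) g]
  exact hy

instance : Preorder (Model U) where
  le C D := C.Le D
  le_refl C := C.isBlowUp.1
  le_trans C D E hCD hDE := by
    refine isEffCartier_comap_of E.str E.isBlowUp.1 ?_
    rw [← hom_str hDE, Scheme.IdealSheafData.comap_comp]
    exact (ModPairLib.isLocPrincipal_of_isEffCartier hCD).comap _

theorem hom_id (x : C.sch) : hom (le_refl C) x = x := by
  rw [← hom_unique (le_refl C) (k := 𝟙 C.sch) (Category.id_comp _)]
  rfl

theorem hom_comp {E : Model U} (h₁ : C ≤ D) (h₂ : D ≤ E) : hom h₂ ≫ hom h₁ = hom (h₁.trans h₂) :=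
  hom_unique _ (by rw [Category.assoc, hom_str, hom_str])

theorem hom_comp_apply {E : Model U} (h₁ : C ≤ D) (h₂ : D ≤ E) (x : E.sch) :
    hom h₁ (hom h₂ x) = hom (h₁.trans h₂) x := by
  rw [← hom_comp h₁ h₂]; rfl

instance isProper_hom (h : C ≤ D) : IsProper (hom h) := by
  have : IsProper (hom h ≫ C.str) := by rw [hom_str]; infer_instance
  exact IsProper.of_comp (hom h) C.str

theorem isClosedMap_hom (h : C ≤ D) : IsClosedMap (hom h) :=
  (hom h).isClosedMap

theorem exc_comap (h : C ≤ D) : C.exc.comap (hom h) = C.centre.comap D.str := by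
  rw [exc, ← Scheme.IdealSheafData.comap_comp, hom_str]

theorem isEffCartier_exc_comap (h : C ≤ D) : BlowUp.IsEffCartierIdeal (C.exc.comap (hom h)) :=
  exc_comap h ▸ h

variable (C) in
/-- Multiply the centre by an ideal containing a power of it. -/
noncomputable def mul (K : S.IdealSheafData) (hK : BlowUp.IsFiniteTypeIdeal K)
    (hs : (K.support : Set S) ⊆ (U : Set S)ᶜ) : Model U where
  centre := C.centre * K
  fg V := by
    rw [Scheme.IdealSheafData.ideal_mul, Pi.mul_apply]
    exact (C.fg V).mul (hK V)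
  supp := by
    rw [Scheme.IdealSheafData.support_mul, Closeds.coe_sup, C.supp]
    exact Set.union_eq_left.mpr hs

theorem le_mul (K : S.IdealSheafData) (hK : BlowUp.IsFiniteTypeIdeal K) (hs : (K.support : Set S) ⊆ (U : Set S)ᶜ) :
    C ≤ C.mul K hK hs ∧ BlowUp.IsEffCartierIdeal (K.comap (C.mul K hK hs).str) := by
  have h := (C.mul K hK hs).isBlowUp.1
  rw [show (C.mul K hK hs).centre = C.centre * K from rfl, ModPairLib.ideal_comap_mul] at h
  refine ⟨BlowUpX.isEffCartier_left_of_mul h, ?_⟩
  rw [mul_comm] at h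
  exact BlowUpX.isEffCartier_left_of_mul h

instance isDirectedOrder : IsDirectedOrder (Model U) := by
  refine ⟨fun C D => ⟨C.mul D.centre D.fg D.supp.le, (le_mul D.centre D.fg D.supp.le).1, ?_⟩⟩
  exact (le_mul (C := C) D.centre D.fg D.supp.le).2

theorem exists_model [CompactSpace S] [QuasiSeparatedSpace S] (hU : IsCompact (U : Set S)) : Nonempty (Model U) := by
  obtain ⟨A, hA, hsupp⟩ := MdlA1.ZarExtend.exists_fg_support U hU
  exact ⟨⟨A, hA, hsupp⟩⟩

end Model

/-- A finitely generated ideal on an affine open containing a power of a centre extends. -/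
theorem exists_extension [CompactSpace S] [QuasiSeparatedSpace S] (C : Model U) (V : S.affineOpens)
    (K : Ideal Γ(S, V.1)) (hK : K.FG) (N : ℕ) (hN : C.centre.ideal V ^ N ≤ K) :
    ∃ K' : S.IdealSheafData, BlowUp.IsFiniteTypeIdeal K' ∧ (K'.support : Set S) ⊆ (U : Set S)ᶜ ∧
      K'.ideal V = K := by
  let A := Γ(S, V.1)
  let ε := (Scheme.ΓSpecIso A).inv.hom
  let I := (BlowUpLib.centre K).map V.2.fromSpec
  have hinj : ∀ L L' : Ideal A, BlowUpLib.centre L ≤ BlowUpLib.centre L' → L ≤ L' := fun L L' h => by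
    have h' := h ⟨⊤, isAffineOpen_top _⟩
    rw [BlowUpLib.centre_top, BlowUpLib.centre_top] at h'
    intro x hx
    have hb := (ConcreteCategory.bijective_of_isIso (Scheme.ΓSpecIso A).inv)
    obtain ⟨y, hy, he⟩ := (Ideal.mem_map_iff_of_surjective _ hb.2).mp (h' (Ideal.mem_map_of_mem _ hx))
    rwa [← hb.1 he]
  have hle : I.ideal V ≤ K := hinj _ _ (by
    rw [← BlowUpLib.comap_fromSpec]; exact Scheme.IdealSheafData.comap_map_le _ _)
  have hge : K ≤ I.ideal V := by
    intro x hx
    show x ∈ ((BlowUpLib.centre K).subschemeι ≫ V.2.fromSpec).ker.ideal V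
    rw [Scheme.Hom.ker_apply, RingHom.mem_ker]
    erw [Scheme.Hom.comp_app]
    change ((BlowUpLib.centre K).subschemeι.app _).hom ((V.2.fromSpec.app V.1).hom x) = 0
    let W : (Spec A).affineOpens := ⟨V.2.fromSpec ⁻¹ᵁ V.1, by rw [V.2.fromSpec_preimage_self]; exact isAffineOpen_top _⟩
    have hmem : (V.2.fromSpec.app V.1).hom x ∈ (BlowUpLib.centre K).ideal W := by
      rw [← (BlowUpLib.centre K).map_ideal (U := W) (V := ⟨⊤, isAffineOpen_top _⟩) (le_top : W.1 ≤ ⊤),
        BlowUpLib.centre_top, V.2.fromSpec_app_self, CommRingCat.hom_comp, RingHom.comp_apply]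
      exact Ideal.mem_map_of_mem _ (Ideal.mem_map_of_mem _ hx)
    rw [← Scheme.IdealSheafData.ker_subschemeι_app] at hmem
    exact hmem
  have hpow : C.centre ^ N ≤ I := by
    rw [Scheme.IdealSheafData.le_map_iff_comap_le, BlowUpLib.comap_fromSpec, Scheme.IdealSheafData.ideal_pow,
      Pi.pow_apply]
    intro W
    rw [← (BlowUpLib.centre K).map_ideal (U := W) (V := ⟨⊤, isAffineOpen_top _⟩) (le_top : W.1 ≤ ⊤),
      ← (BlowUpLib.centre (C.centre.ideal V ^ N)).map_ideal (U := W) (V := ⟨⊤, isAffineOpen_top _⟩) (le_top : W.1 ≤ ⊤),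
      BlowUpLib.centre_top, BlowUpLib.centre_top]
    exact Ideal.map_mono (Ideal.map_mono hN)
  obtain ⟨K₁, hK₁le, hK₁fg, hK₁⟩ := MorLib.IdealFG.exists_fg_le I V K hK hge
  refine ⟨K₁ ⊔ C.centre ^ N, MorLib.IdealFG.isFG_sup hK₁fg fun W => ?_, ?_, ?_⟩
  · rw [Scheme.IdealSheafData.ideal_pow, Pi.pow_apply]
    exact (C.fg W).pow
  · rcases Nat.eq_zero_or_pos N with rfl | hpos
    · intro x hx
      have := Scheme.IdealSheafData.support_antitone (le_sup_right : C.centre ^ 0 ≤ K₁ ⊔ C.centre ^ 0) hx
      simp at this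
      exact (Set.notMem_empty x (by rw [← TopologicalSpace.Closeds.coe_bot (α := S)]; exact this)).elim
    · intro x hx
      have hx' : x ∈ ((C.centre ^ N).support : Set S) := Scheme.IdealSheafData.support_antitone le_sup_right hx
      rw [Scheme.IdealSheafData.support_pow _ _ hpos.ne', C.supp] at hx'
      exact hx'
  · rw [Scheme.IdealSheafData.ideal_sup, Pi.sup_apply, Scheme.IdealSheafData.ideal_pow, Pi.pow_apply]
    exact le_antisymm (sup_le ((hK₁le V).trans hle) hN) (hK₁.trans le_sup_left)

end Groth.Agent.Flattening12
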