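import Groth.Agent.Flattening12.Geometry
import Groth.Agent.QCoh.Support
import Groth.Agent.QCoh.DevissageSum
import Groth.Agent.QCoh.FlatOver
import Groth.Agent.QCoh.PullbackBC
import Groth.Agent.MorLib.IdealFG2
import Groth.Prelude.Def_FlatMod2

/-!
# Strict transforms of quasi-coherent modules
-/

set_option backward.isDefEq.respectTransparency false
set_option backward.isDefEq.respectTransparency.types false
set_option linter.style.haveILetI false
set_option autoImplicit false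
universe u

open CategoryTheory Limits AlgebraicGeometry TopologicalSpace Opposite TensorProduct

namespace Groth.Agent.Flattening12

variable {X : Scheme.{u}}

theorem mem_ideal_pow_map_iff (E : X.IdealSheafData) {U V : X.affineOpens} (h : V.1 ≤ U.1) (n : ℕ) :
    (E ^ n).ideal V = ((E ^ n).ideal U).map (X.presheaf.map (homOfLE h).op).hom :=
  ((E ^ n).map_ideal (U := V) (V := U) h).symm

/-- The kernel of a strict transform map is quasi-coherent. -/
theorem isQCoh_kernel_of_killed {M G : X.Modules} (hM : Coh.IsQCoh M) (E : X.IdealSheafData)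
    (hE : BlowUp.IsFiniteTypeIdeal E) (π : M ⟶ G)
    (hker : ∀ (V : X.affineOpens) (m : Γ(M, V.1)), π.app V.1 m = 0 ↔ BlowUp.KilledByPowerNear E M V m) :
    Coh.IsQCoh (kernel π) := by
  have hκ : ∀ (V : X.Opens) (w : Γ(kernel π, V)), π.app V ((kernel.ι π).app V w) = 0 := fun V w =>
    congr(($(kernel.condition π)).app V w)
  refine QCoh.isQCoh_of_sections (fun U hU g s => ?_) fun U hU g t ht => ?_
  · let U' : X.affineOpens := ⟨U, hU⟩
    let D : X.affineOpens := ⟨X.basicOpen g, hU.basicOpen g⟩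
    have hDU : D.1 ≤ U'.1 := X.basicOpen_le g
    let s₀ : Γ(M, D.1) := (kernel.ι π).app D.1 s
    obtain ⟨m, hm⟩ := (hker D s₀).mp (hκ _ s)
    obtain ⟨n, t, ht⟩ := QCoh.exists_pow_smul_eq_map hM hU g s₀
    obtain ⟨a, ha⟩ : ((E ^ m).ideal U').FG := by
      rw [Scheme.IdealSheafData.ideal_pow, Pi.pow_apply]; exact (hE U').pow
    have hkill : ∀ x ∈ a, ∃ k : ℕ, g ^ k • x • t = 0 := fun x hx => by
      refine QCoh.exists_pow_smul_eq_zero hM hU g (x • t) ?_
      rw [QCoh.map_smul', ht, smul_comm, hm _ (by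
        rw [mem_ideal_pow_map_iff E hDU]; exact Ideal.mem_map_of_mem _ (ha ▸ Ideal.subset_span hx)), smul_zero]
    choose k hk using hkill
    let K := a.attach.sup fun x => k x.1 x.2
    have ht' : π.app U (g ^ K • t) = 0 := by
      refine (hker U' _).mpr ⟨m, fun x hx => ?_⟩
      have hsub : (E ^ m).ideal U' ≤ Submodule.comap
          (LinearMap.toSpanSingleton Γ(X, U) Γ(M, U) (g ^ K • t)) ⊥ := by
        rw [← ha, Submodule.span_le]
        intro y hy
        have hle : k y hy ≤ K := Finset.le_sup (f := fun x : a => k x.1 x.2) (Finset.mem_attach a ⟨y, hy⟩)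
        show y • g ^ K • t = 0
        rw [← Nat.sub_add_cancel hle, pow_add, mul_smul, smul_comm y, smul_comm y, hk y hy, smul_zero]
      exact hsub hx
    obtain ⟨w, hw⟩ := QCoh.exists_kernel_lift π U (g ^ K • t) ht'
    refine ⟨K + n, w, QCoh.app_injective (kernel.ι π) _ ?_⟩
    rw [QCoh.map_app_comm, hw, QCoh.map_smul', ht, Scheme.Modules.Hom.app_smul, map_pow, ← mul_smul, ← pow_add]
  · obtain ⟨n, hn⟩ := QCoh.exists_pow_smul_eq_zero hM hU g ((kernel.ι π).app U t)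
      (by rw [← QCoh.map_app_comm, ht, map_zero])
    refine ⟨n, QCoh.app_injective (kernel.ι π) U ?_⟩
    rw [Scheme.Modules.Hom.app_smul, hn, map_zero]

/-- A strict transform is quasi-coherent. -/
theorem isQCoh_of_killed {M G : X.Modules} (hM : Coh.IsQCoh M) (E : X.IdealSheafData)
    (hE : BlowUp.IsFiniteTypeIdeal E) (π : M ⟶ G) [Epi π]
    (hker : ∀ (V : X.affineOpens) (m : Γ(M, V.1)), π.app V.1 m = 0 ↔ BlowUp.KilledByPowerNear E M V m) :
    Coh.IsQCoh G := by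
  have h := QCoh.isQCoh_cokernel (isQCoh_kernel_of_killed hM E hE π hker) hM (kernel.ι π)
  let e : cokernel (kernel.ι π) ≅ G :=
    (cokernelIsCokernel (kernel.ι π)).coconePointUniqueUpToIso
      (Abelian.epiIsCokernelOfKernel (KernelFork.ofι (kernel.ι π) (kernel.condition π)) (kernelIsKernel π))
  exact (QCoh.isQCoh_iff_iso e).mp h

/-- Finite presentation over an open gives finite presentation on its affines. -/
theorem finitePresentation_of_isFP_pullback_ι {O : X.Opens} {M : X.Modules} (hM : Coh.IsQCoh M)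
    (hfp : CohB1.IsFP ((Scheme.Modules.pullback O.ι).obj M)) {P : X.Opens} (hP : IsAffineOpen P) (h : P ≤ O) :
    Module.FinitePresentation Γ(X, P) Γ(M, P) := by
  have hr : P ≤ O.ι.opensRange := by rw [Scheme.Opens.opensRange_ι]; exact h
  have hW : IsAffineOpen (O.ι ⁻¹ᵁ P) := hP.preimage_of_isOpenImmersion O.ι hr
  let N := (Scheme.Modules.pullback O.ι).obj M
  haveI := QCoh.finitePresentation_of_isFP hfp hW
  letI : Algebra Γ(X, P) Γ(O, O.ι ⁻¹ᵁ P) := (O.ι.appLE P (O.ι ⁻¹ᵁ P) le_rfl).hom.toAlgebra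
  letI : Module Γ(X, P) Γ(N, O.ι ⁻¹ᵁ P) := Module.compHom _ (O.ι.appLE P (O.ι ⁻¹ᵁ P) le_rfl).hom
  haveI : IsScalarTower Γ(X, P) Γ(O, O.ι ⁻¹ᵁ P) Γ(N, O.ι ⁻¹ᵁ P) := .of_algebraMap_smul fun _ _ => rfl
  let l : Γ(M, P) →ₗ[Γ(X, P)] Γ(N, O.ι ⁻¹ᵁ P) :=
    { toFun := QCoh.pullSec O.ι M le_rfl
      map_add' := QCoh.pullSec_add O.ι M le_rfl
      map_smul' := fun r m => QCoh.pullSec_smul O.ι M le_rfl r m }
  have hb : IsBaseChange Γ(O, O.ι ⁻¹ᵁ P) l :=
    QCoh.isBaseChange_pullback hP O.ι hW hM le_rfl (fun _ => rfl) l fun _ => rfl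
  haveI := O.ι.isIso_app P hr
  have hbij : Function.Bijective (Algebra.linearMap Γ(X, P) Γ(O, O.ι ⁻¹ᵁ P)) := by
    show Function.Bijective (O.ι.appLE P (O.ι ⁻¹ᵁ P) le_rfl)
    rw [← Scheme.Hom.app_eq_appLE]
    exact ConcreteCategory.bijective_of_isIso (O.ι.app P)
  let ε := LinearEquiv.ofBijective _ hbij
  haveI : Module.FinitePresentation Γ(X, P) Γ(O, O.ι ⁻¹ᵁ P) := Module.FinitePresentation.of_equiv ε
  haveI := Module.FinitePresentation.trans Γ(X, P) Γ(N, O.ι ⁻¹ᵁ P) Γ(O, O.ι ⁻¹ᵁ P)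
  exact Module.FinitePresentation.of_equiv ((hb.equiv.restrictScalars Γ(X, P)).symm.trans
    ((TensorProduct.congr ε (LinearEquiv.refl Γ(X, P) Γ(M, P))).symm.trans (TensorProduct.lid Γ(X, P) Γ(M, P))))

variable {S : Scheme.{u}} (f : X ⟶ S)

/-- The hypotheses of the local flattening theorem for the sections over an affine of `X`. -/
theorem localized_good_of_isFP {U : S.Opens} {F : X.Modules} (hF : Coh.IsQCoh F)
    (hfpU : CohB1.IsFP ((Scheme.Modules.pullback (f ⁻¹ᵁ U).ι).obj F))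
    (hflU : ∀ x : X, f x ∈ U → FlatMod.IsFlatOverAt f F x) (Vs : S.affineOpens) {P : X.Opens} (hP : IsAffineOpen P)
    (e : P ≤ f ⁻¹ᵁ Vs.1) {r : Γ(S, Vs.1)} (hr : S.basicOpen r ≤ U) :
    letI : Algebra Γ(S, Vs.1) Γ(X, P) := (f.appLE Vs.1 P e).hom.toAlgebra
    letI : Module Γ(S, Vs.1) Γ(F, P) := Module.compHom _ (f.appLE Vs.1 P e).hom
    haveI : IsScalarTower Γ(S, Vs.1) Γ(X, P) Γ(F, P) := .of_algebraMap_smul fun _ _ => rfl
    Module.Flat Γ(S, Vs.1) (LocalizedModule (Submonoid.powers (algebraMap Γ(S, Vs.1) Γ(X, P) r)) Γ(F, P)) ∧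
      Module.FinitePresentation (Localization.Away (algebraMap Γ(S, Vs.1) Γ(X, P) r))
        (LocalizedModule (Submonoid.powers (algebraMap Γ(S, Vs.1) Γ(X, P) r)) Γ(F, P)) := by
  letI : Algebra Γ(S, Vs.1) Γ(X, P) := (f.appLE Vs.1 P e).hom.toAlgebra
  letI : Module Γ(S, Vs.1) Γ(F, P) := Module.compHom _ (f.appLE Vs.1 P e).hom
  haveI : IsScalarTower Γ(S, Vs.1) Γ(X, P) Γ(F, P) := .of_algebraMap_smul fun _ _ => rfl
  show _ ∧ _
  let b : Γ(X, P) := (f.appLE Vs.1 P e).hom r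
  have hD : X.basicOpen b = P ⊓ f ⁻¹ᵁ S.basicOpen r := Scheme.basicOpen_appLE f P Vs.1 e r
  have hDU : X.basicOpen b ≤ f ⁻¹ᵁ U := by
    rw [hD]; exact fun x hx => hr hx.2
  letI := QCoh.basicModule b F
  letI : Algebra Γ(X, P) Γ(X, X.basicOpen b) := (X.presheaf.map (homOfLE (X.basicOpen_le b)).op).hom.toAlgebra
  haveI : IsLocalization.Away b Γ(X, X.basicOpen b) := hP.isLocalization_basicOpen b
  haveI : IsScalarTower Γ(X, P) Γ(X, X.basicOpen b) Γ(F, X.basicOpen b) := .of_algebraMap_smul fun _ _ => rfl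
  haveI hl := QCoh.isLocalizedModule_basicRes b hF hP
  let lk := LocalizedModule.mkLinearMap (Submonoid.powers b) Γ(F, P)
  let ek : LocalizedModule (Submonoid.powers b) Γ(F, P) ≃ₗ[Γ(X, P)] Γ(F, X.basicOpen b) :=
    IsLocalizedModule.iso (Submonoid.powers b) (QCoh.basicRes b F)
  constructor
  · letI : Module Γ(S, Vs.1) Γ(F, X.basicOpen b) :=
      Module.compHom _ (f.appLE Vs.1 (X.basicOpen b) ((X.basicOpen_le b).trans e)).hom
    haveI : IsScalarTower Γ(S, Vs.1) Γ(X, P) Γ(F, X.basicOpen b) := .of_algebraMap_smul fun a m =>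
      congrArg (· • m) congr($(Scheme.Hom.appLE_map f e (homOfLE (X.basicOpen_le b)).op).hom a)
    haveI : Module.Flat Γ(S, Vs.1) Γ(F, X.basicOpen b) :=
      (QCoh.flat_appLE_iff f hF (hP.basicOpen b) Vs.2 _).2 fun x hx => hflU x (hDU hx)
    exact Module.Flat.of_linearEquiv (ek.restrictScalars Γ(S, Vs.1))
  · haveI := finitePresentation_of_isFP_pullback_ι hF hfpU (hP.basicOpen b) hDU
    let σ : Localization.Away b ≃ₐ[Γ(X, P)] Γ(X, X.basicOpen b) :=
      IsLocalization.algEquiv (Submonoid.powers b) _ _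
    letI : Algebra Γ(X, X.basicOpen b) (Localization.Away b) := σ.symm.toAlgHom.toRingHom.toAlgebra
    haveI : IsScalarTower Γ(X, P) Γ(X, X.basicOpen b) (Localization.Away b) :=
      .of_algebraMap_eq fun a => (σ.symm.commutes a).symm
    haveI : Module.FinitePresentation (Localization.Away b) (Localization.Away b ⊗[Γ(X, P)] Γ(F, P)) :=
      Module.FinitePresentation.of_equiv
        ((TensorProduct.AlgebraTensorModule.congr (LinearEquiv.refl (Localization.Away b) _)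
            (IsLocalizedModule.isBaseChange (Submonoid.powers b) Γ(X, X.basicOpen b) (QCoh.basicRes b F)).equiv.symm).trans
          (TensorProduct.AlgebraTensorModule.cancelBaseChange Γ(X, P) Γ(X, X.basicOpen b) (Localization.Away b)
            (Localization.Away b) Γ(F, P)))
    exact Module.FinitePresentation.of_equiv
      ((IsLocalizedModule.isBaseChange (Submonoid.powers b) (Localization.Away b) lk).equiv)

variable {U : S.Opens}

/-- Over a good affine of a model the strict transform is finitely presented and flat. -/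
theorem strictTransform_good {F : X.Modules} (hF : Coh.IsQCoh F) {Vs : S.affineOpens} {P : X.Opens}
    (hP : IsAffineOpen P) (eP : P ≤ f ⁻¹ᵁ Vs.1) {Y X' : Scheme.{u}} {b : Y ⟶ S} {Wc : Y.affineOpens}
    (eW : Wc.1 ≤ b ⁻¹ᵁ Vs.1) {𝓘 : S.IdealSheafData} {c : Γ(Y, Wc.1)}
    (hc : (𝓘.comap b).ideal Wc = Ideal.span {c})
    (hs : letI : Algebra Γ(S, Vs.1) Γ(X, P) := (f.appLE Vs.1 P eP).hom.toAlgebra
      StrictOn b Wc eW c Γ(X, P) Γ(F, P))
    {p₁ : X' ⟶ X} {p₂ : X' ⟶ Y} (sq : IsPullback p₁ p₂ f b) {G : X'.Modules}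
    (hG : Coh.IsQCoh G) (π : (Scheme.Modules.pullback p₁).obj F ⟶ G) [Epi π]
    (hker : ∀ (V : X'.affineOpens) (m : Γ((Scheme.Modules.pullback p₁).obj F, V.1)), π.app V.1 m = 0 ↔
      BlowUp.KilledByPowerNear ((𝓘.comap f).comap p₁) ((Scheme.Modules.pullback p₁).obj F) V m) :
    IsAffineOpen (p₁ ⁻¹ᵁ P ⊓ p₂ ⁻¹ᵁ Wc.1) ∧
      Module.FinitePresentation Γ(X', p₁ ⁻¹ᵁ P ⊓ p₂ ⁻¹ᵁ Wc.1) Γ(G, p₁ ⁻¹ᵁ P ⊓ p₂ ⁻¹ᵁ Wc.1) ∧
      ∀ x ∈ p₁ ⁻¹ᵁ P ⊓ p₂ ⁻¹ᵁ Wc.1, FlatMod.IsFlatOverAt p₂ G x := by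
  let W : X'.Opens := p₁ ⁻¹ᵁ P ⊓ p₂ ⁻¹ᵁ Wc.1
  have hW : IsAffineOpen W := by
    haveI : IsAffine _ := Vs.2
    haveI : IsAffine _ := Wc.2
    haveI : IsAffine _ := hP
    exact .of_isIso (Scheme.Hom.isPullback_resLE sq eW eP (UY := W) rfl).isoPullback.hom
  have hpo := (isIso_pushoutSection_iff sq eW eP (UY := W) rfl).mp
    (isIso_pushoutSection_of_isAffineOpen sq eW eP rfl Vs.2 Wc.2 hP)
  let N := (Scheme.Modules.pullback p₁).obj F
  have hN : Coh.IsQCoh N := QCoh.isQCoh_pullback p₁ hF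
  letI : Algebra Γ(S, Vs.1) Γ(X, P) := (f.appLE Vs.1 P eP).hom.toAlgebra
  letI : Algebra Γ(S, Vs.1) Γ(Y, Wc.1) := (b.appLE Vs.1 Wc.1 eW).hom.toAlgebra
  letI : Algebra Γ(X, P) Γ(X', W) := (p₁.appLE P W inf_le_left).hom.toAlgebra
  letI : Algebra Γ(Y, Wc.1) Γ(X', W) := (p₂.appLE Wc.1 W inf_le_right).hom.toAlgebra
  letI : Algebra Γ(S, Vs.1) Γ(X', W) := (f.appLE Vs.1 P eP ≫ p₁.appLE P W inf_le_left).hom.toAlgebra
  haveI : IsScalarTower Γ(S, Vs.1) Γ(X, P) Γ(X', W) := .of_algebraMap_eq fun _ => rfl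
  haveI : IsScalarTower Γ(S, Vs.1) Γ(Y, Wc.1) Γ(X', W) := .of_algebraMap_eq fun r => congr($(hpo.w).hom r)
  haveI : Algebra.IsPushout Γ(S, Vs.1) Γ(Y, Wc.1) Γ(X, P) Γ(X', W) :=
    CommRingCat.isPushout_iff_isPushout.mp hpo.flip
  letI : Module Γ(X, P) Γ(N, W) := Module.compHom _ (p₁.appLE P W inf_le_left).hom
  haveI : IsScalarTower Γ(X, P) Γ(X', W) Γ(N, W) := .of_algebraMap_smul fun _ _ => rfl
  letI : Module Γ(Y, Wc.1) Γ(N, W) := Module.compHom _ (p₂.appLE Wc.1 W inf_le_right).hom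
  haveI : IsScalarTower Γ(Y, Wc.1) Γ(X', W) Γ(N, W) := .of_algebraMap_smul fun _ _ => rfl
  let l : Γ(F, P) →ₗ[Γ(X, P)] Γ(N, W) :=
    { toFun := QCoh.pullSec p₁ F inf_le_left
      map_add' := QCoh.pullSec_add p₁ F inf_le_left
      map_smul' := fun r m => QCoh.pullSec_smul p₁ F inf_le_left r m }
  have hb : IsBaseChange Γ(X', W) l :=
    QCoh.isBaseChange_pullback hP p₁ hW hF inf_le_left (fun _ => rfl) l fun _ => rfl
  obtain ⟨hflat, hfp⟩ := hs Γ(X', W) Γ(N, W) l hb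
  set x : Γ(X', W) := algebraMap Γ(Y, Wc.1) Γ(X', W) c
  have hE : ∀ n : ℕ, (((𝓘.comap f).comap p₁) ^ n).ideal ⟨W, hW⟩ = Ideal.span {x ^ n} := fun n => by
    rw [Scheme.IdealSheafData.ideal_pow, Pi.pow_apply, ← Scheme.IdealSheafData.comap_comp, sq.w,
      Scheme.IdealSheafData.comap_comp,
      ModPairLib.ideal_comap _ p₂ Wc ⟨W, hW⟩ (inf_le_right : W ≤ _), hc, Ideal.map_span, Set.image_singleton,
      Ideal.span_singleton_pow]
    rfl
  let q : Γ(N, W) →ₗ[Γ(X', W)] Γ(G, W) :=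
    { toFun := π.app W
      map_add' := map_add (π.app W).hom
      map_smul' := fun r m => π.app_smul r m }
  have hq : LinearMap.ker q = FlatCA.powTorsion Γ(X', W) x Γ(N, W) := by
    ext m
    rw [LinearMap.mem_ker, mem_powTorsion]
    refine (hker ⟨W, hW⟩ m).trans ⟨fun ⟨n, hn⟩ => ⟨n, hn _ (hE n ▸ Ideal.mem_span_singleton_self _)⟩, ?_⟩
    rintro ⟨n, hn⟩
    refine ⟨n, fun a ha => ?_⟩
    rw [hE] at ha
    obtain ⟨r, rfl⟩ := Ideal.mem_span_singleton'.mp ha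
    rw [mul_smul, hn, smul_zero]
  let ε : (Γ(N, W) ⧸ FlatCA.powTorsion Γ(X', W) x Γ(N, W)) ≃ₗ[Γ(X', W)] Γ(G, W) :=
    (Submodule.quotEquivOfEq _ _ hq.symm).trans
      (q.quotKerEquivOfSurjective (QCoh.app_surjective_of_epi hN hG π hW))
  haveI := hflat
  haveI := hfp
  refine ⟨hW, Module.FinitePresentation.of_equiv ε, (QCoh.flat_appLE_iff p₂ hG hW Wc.2 inf_le_right).1 ?_⟩
  letI : Module Γ(Y, Wc.1) Γ(G, W) := Module.compHom _ (p₂.appLE Wc.1 W inf_le_right).hom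
  haveI : IsScalarTower Γ(Y, Wc.1) Γ(X', W) Γ(G, W) := .of_algebraMap_smul fun _ _ => rfl
  exact Module.Flat.of_linearEquiv (ε.symm.restrictScalars Γ(Y, Wc.1))

end Groth.Agent.Flattening12
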