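import Groth.Agent.Flattening12.Strict
import Groth.Agent.Flattening12.Valuative
import Groth.Agent.Flattening12.FPDense
import Groth.Agent.FlatLimHx.Alg
import Groth.Agent.FlatSyz5.Colim

/-!
# A valuative limit makes strict transforms flat and finitely presented at a stage
-/

set_option autoImplicit false
set_option linter.style.haveILetI false
universe u

namespace Groth.Agent.Flattening12

open TensorProduct

attribute [local instance] Algebra.TensorProduct.rightAlgebra

variable {A : Type u} [CommRing A] {f : A} {B : Type u} [CommRing B] [Algebra A B]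

/-- Transitivity in the base. -/
theorem StrictFlatFP.trans {C₁ C : Type u} [CommRing C₁] [Algebra A C₁] [CommRing C] [Algebra A C] [Algebra C₁ C]
    [IsScalarTower A C₁ C] {M : Type u} [AddCommGroup M] [Module B M]
    (h : StrictFlatFP C₁ (algebraMap A C₁ f) C (C₁ ⊗[A] B) ((C₁ ⊗[A] B) ⊗[B] M)) : StrictFlatFP A f C B M := by
  intro B' M' _ _ _ _ _ _ _ _ _ _ _ _ _ φ hφ
  letI : Algebra C₁ B' := ((algebraMap C B').comp (algebraMap C₁ C)).toAlgebra
  haveI : IsScalarTower C₁ C B' := IsScalarTower.of_algebraMap_eq' rfl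
  haveI : IsScalarTower A C₁ B' := IsScalarTower.of_algebraMap_eq fun x => by
    rw [IsScalarTower.algebraMap_apply C₁ C B', ← IsScalarTower.algebraMap_apply A C₁ C,
      ← IsScalarTower.algebraMap_apply A C B']
  let ψ : C₁ ⊗[A] B →ₐ[A] B' := Algebra.TensorProduct.lift (IsScalarTower.toAlgHom A C₁ B')
    (IsScalarTower.toAlgHom A B B') fun _ _ => .all _ _
  letI : Algebra (C₁ ⊗[A] B) B' := ψ.toRingHom.toAlgebra
  haveI : IsScalarTower A (C₁ ⊗[A] B) B' := IsScalarTower.of_algebraMap_eq fun x => (ψ.commutes x).symm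
  haveI : IsScalarTower C₁ (C₁ ⊗[A] B) B' := IsScalarTower.of_algebraMap_eq fun x => by
    show _ = ψ (x ⊗ₜ 1)
    simp [ψ]
  haveI : IsScalarTower B (C₁ ⊗[A] B) B' := IsScalarTower.of_algebraMap_eq fun x => by
    show _ = ψ (1 ⊗ₜ x)
    simp [ψ]
  haveI : Algebra.IsPushout C₁ C (C₁ ⊗[A] B) B' := (Algebra.IsPushout.comp_iff A C₁ B (C₁ ⊗[A] B)).mp ‹_›
  letI : Module (C₁ ⊗[A] B) M' := Module.compHom M' ψ.toRingHom
  haveI : IsScalarTower (C₁ ⊗[A] B) B' M' := IsScalarTower.of_algebraMap_smul fun _ _ => rfl
  haveI : IsScalarTower B (C₁ ⊗[A] B) M' := IsScalarTower.of_algebraMap_smul fun b m => by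
    show ψ (1 ⊗ₜ b) • m = b • m
    simp [ψ, algebraMap_smul]
  let l : M →ₗ[B] (C₁ ⊗[A] B) ⊗[B] M := TensorProduct.mk B (C₁ ⊗[A] B) M 1
  have hl : IsBaseChange (C₁ ⊗[A] B) l := TensorProduct.isBaseChange B M (C₁ ⊗[A] B)
  let φ₁ : (C₁ ⊗[A] B) ⊗[B] M →ₗ[C₁ ⊗[A] B] M' := hl.lift φ
  have hcomp : (φ₁.restrictScalars B).comp l = φ := hl.lift_comp φ
  have hφ₁ : IsBaseChange B' φ₁ := IsBaseChange.of_comp hl (hcomp.symm ▸ hφ)
  have := h B' M' φ₁ hφ₁
  rwa [← IsScalarTower.algebraMap_apply A C₁ B'] at this

variable {ι : Type u} [Preorder ι] {G : ι → Type u} [∀ i, CommRing (G i)] [∀ i, Algebra A (G i)]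
  {g : ∀ i j, i ≤ j → G i →ₐ[A] G j} {R : Type u} [CommRing R] [Algebra A R] {a : ∀ i, G i →ₐ[A] R}

/-- If a finitely presented module becomes flat at the limit, its strict transform is good at a stage. -/
theorem exists_stage_of_flat_limit (hcol : FlatLimHx.IsColim g a) [Algebra.FinitePresentation A B]
    (hf : ∀ i, algebraMap A (G i) f ∈ nonZeroDivisors (G i))
    (N : Type u) [AddCommGroup N] [Module B N] [Module A N] [IsScalarTower A B N] [Module.FinitePresentation B N]
    (hflat : Module.Flat R (R ⊗[A] N)) : ∃ i, StrictFlatFP A f (G i) B N := by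
  letI : ∀ i, Algebra (G i) R := fun i => (a i).toRingHom.toAlgebra
  haveI : ∀ i, IsScalarTower A (G i) R := fun i => IsScalarTower.of_algebraMap_eq fun x => ((a i).commutes x).symm
  obtain ⟨i, hi⟩ := FlatSyz5.exists_flat_stage G g R ⟨hcol.dir, hcol.ne,
    fun i => RingHom.ext (hcol.self i), fun i j k hij hjk => RingHom.ext (hcol.comp i j k hij hjk),
    fun i j h => RingHom.ext (hcol.compat i j h), hcol.surj, hcol.zero⟩ (B₀ := B) N hflat
  refine ⟨i, fun B' M' _ _ _ _ _ _ _ _ _ _ _ _ _ φ hφ => ?_⟩
  letI : Module A M' := Module.compHom M' (algebraMap A B')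
  haveI : IsScalarTower A B' M' := IsScalarTower.of_algebraMap_smul fun _ _ => rfl
  haveI : IsScalarTower A B M' := IsScalarTower.of_algebraMap_smul fun x m => by
    rw [← algebraMap_smul B' (algebraMap A B x), ← IsScalarTower.algebraMap_apply, algebraMap_smul]
  haveI : IsScalarTower A (G i) M' := IsScalarTower.of_algebraMap_smul fun x m => by
    rw [← algebraMap_smul B' (algebraMap A (G i) x), ← IsScalarTower.algebraMap_apply, algebraMap_smul]
  have hbc := isBaseChange_restrictScalars (A := A) (C := G i) hφ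
  haveI : Module.Flat (G i) M' := Module.Flat.of_linearEquiv hbc.equiv.symm
  have hreg : IsSMulRegular M' (algebraMap A B' f) := by
    have h0 : IsSMulRegular (G i) (algebraMap A (G i) f) := fun p q h => by
      simp only [smul_eq_mul] at h
      exact sub_eq_zero.mp (mem_nonZeroDivisors_iff_right.mp (hf i) _ (by rw [sub_mul, mul_comm p, mul_comm q, h, sub_self]))
    have h1 : IsSMulRegular M' (algebraMap A (G i) f) :=
      by
        have h2 := Module.Flat.rTensor_preserves_injective_linearMap (M := M')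
          (LinearMap.lsmul (G i) (G i) (algebraMap A (G i) f)) h0
        intro p q h
        have h3 : (1 : G i) ⊗ₜ[G i] p = (1 : G i) ⊗ₜ[G i] q := h2 (by
          simp only [LinearMap.rTensor_tmul, LinearMap.lsmul_apply]
          rw [smul_tmul, smul_tmul, show algebraMap A (G i) f • p = algebraMap A (G i) f • q from h])
        simpa using congrArg (TensorProduct.lid (G i) M') h3
    intro p q h
    refine h1 ?_
    simp only at h ⊢
    rwa [← algebraMap_smul B' (algebraMap A (G i) f) p, ← algebraMap_smul B' (algebraMap A (G i) f) q,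
      ← IsScalarTower.algebraMap_apply]
  rw [powTorsion_eq_bot hreg]
  haveI : Module.FinitePresentation B' M' := Module.FinitePresentation.of_equiv hφ.equiv
  exact ⟨Module.Flat.of_linearEquiv ((Submodule.quotEquivOfEqBot ⊥ rfl).restrictScalars (G i)),
    Module.FinitePresentation.of_equiv (Submodule.quotEquivOfEqBot (⊥ : Submodule B' M') rfl).symm⟩

/-- Localisation at the powers of an element of the base may be computed over the base. -/
theorem isLocalizedModule_restrict (f : A) {N L : Type u} [AddCommGroup N] [Module B N] [Module A N] [IsScalarTower A B N]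
    [AddCommGroup L] [Module B L] [Module A L] [IsScalarTower A B L] (l : N →ₗ[B] L)
    [IsLocalizedModule (Submonoid.powers (algebraMap A B f)) l] :
    IsLocalizedModule (Submonoid.powers f) (l.restrictScalars A) where
  map_units := by
    rintro ⟨_, n, rfl⟩
    rw [Module.End.isUnit_iff]
    have h := (Module.End.isUnit_iff _).mp (IsLocalizedModule.map_units l
      (⟨algebraMap A B f ^ n, n, rfl⟩ : Submonoid.powers (algebraMap A B f)))
    convert h using 1
    ext y
    show f ^ n • y = (algebraMap A B f ^ n) • y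
    rw [← map_pow, algebraMap_smul]
  surj y := by
    obtain ⟨⟨x, ⟨_, n, rfl⟩⟩, hx⟩ := IsLocalizedModule.surj (Submonoid.powers (algebraMap A B f)) l y
    refine ⟨⟨x, ⟨f ^ n, n, rfl⟩⟩, ?_⟩
    show f ^ n • y = l x
    rw [← hx, Submonoid.smul_def, ← algebraMap_smul B (f ^ n), map_pow]
  exists_of_eq {x₁ x₂} h := by
    obtain ⟨⟨_, n, rfl⟩, hn⟩ := IsLocalizedModule.exists_of_eq (S := Submonoid.powers (algebraMap A B f)) (f := l) h
    refine ⟨⟨f ^ n, n, rfl⟩, ?_⟩
    show f ^ n • x₁ = f ^ n • x₂
    rw [← algebraMap_smul B (f ^ n) x₁, ← algebraMap_smul B (f ^ n) x₂, map_pow]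
    exact hn

/-- Quotienting by torsion does not change the localisation. -/
theorem finitePresentation_localized_quotient {P : Type u} [CommRing P] (x : P) (M : Type u) [AddCommGroup M]
    [Module P M] [Module.FinitePresentation P M] :
    Module.FinitePresentation (Localization.Away x)
      (LocalizedModule (Submonoid.powers x) (M ⧸ FlatCA.powTorsion P x M)) := by
  let S := Submonoid.powers x
  let T := FlatCA.powTorsion P x M
  haveI : Module.FinitePresentation (Localization.Away x) (LocalizedModule S M) :=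
    Module.FinitePresentation.of_equiv (IsLocalizedModule.isBaseChange S (Localization.Away x)
      (LocalizedModule.mkLinearMap S M)).equiv
  let e := IsLocalizedModule.mapExtendScalars S (LocalizedModule.mkLinearMap S M)
    (LocalizedModule.mkLinearMap S (M ⧸ T)) (Localization.Away x) T.mkQ
  refine Module.FinitePresentation.of_equiv (LinearEquiv.ofBijective e
    ⟨(injective_iff_map_eq_zero _).mpr fun y hy => ?_, IsLocalizedModule.map_surjective S _ _ _ T.mkQ_surjective⟩)
  obtain ⟨⟨m, s⟩, rfl⟩ := IsLocalizedModule.mk'_surjective S (LocalizedModule.mkLinearMap S M) y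
  change IsLocalizedModule.map S _ _ T.mkQ (IsLocalizedModule.mk' _ m s) = 0 at hy
  rw [IsLocalizedModule.map_mk', IsLocalizedModule.mk'_eq_zero'] at hy
  rw [Function.uncurry_apply_pair, IsLocalizedModule.mk'_eq_zero']
  obtain ⟨⟨_, k, rfl⟩, hc⟩ := hy
  obtain ⟨n, hn⟩ := mem_powTorsion.mp ((Submodule.Quotient.mk_eq_zero T).mp hc)
  refine ⟨⟨x ^ (n + k), _, rfl⟩, ?_⟩
  change x ^ n • x ^ k • m = 0 at hn
  show x ^ (n + k) • m = 0
  rw [pow_add, mul_smul]; exact hn

set_option maxHeartbeats 1600000 in
/-- A valuative limit makes the strict transform flat and finitely presented at some stage. -/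
theorem exists_stage_strictFlatFP (hcol : FlatLimHx.IsColim g a) (hf : ∀ i, algebraMap A (G i) f ∈ nonZeroDivisors (G i))
    (hval : IsValuativeAt (algebraMap A R f)) [Algebra.FinitePresentation A B]
    (M : Type u) [AddCommGroup M] [Module B M] [Module A M] [IsScalarTower A B M] [Module.Finite B M]
    (hflat : Module.Flat A (LocalizedModule (Submonoid.powers (algebraMap A B f)) M))
    (hfp : Module.FinitePresentation (Localization.Away (algebraMap A B f))
      (LocalizedModule (Submonoid.powers (algebraMap A B f)) M)) :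
    ∃ i, StrictFlatFP A f (G i) B M := by
  classical
  set fB := algebraMap A B f
  obtain ⟨m, π, hπ⟩ := Module.Finite.exists_fin' B M
  obtain ⟨K₀, hK₀, hK₀le, hK₀k⟩ := exists_fg_le_localized π hπ _ hfp
  let N := (Fin m → B) ⧸ K₀
  haveI : Module.FinitePresentation B N :=
    Module.finitePresentation_of_surjective K₀.mkQ (Submodule.mkQ_surjective _) (by
      rw [Submodule.ker_mkQ]; exact hK₀)
  let ρ : N →ₗ[B] M := K₀.liftQ π hK₀le
  have hρ : Function.Surjective ρ := fun x => ⟨K₀.mkQ (hπ x).choose, (hπ x).choose_spec⟩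
  have hρk : ∀ z, ρ z = 0 → ∃ n : ℕ, fB ^ n • z = 0 := fun z hz => by
    obtain ⟨k, rfl⟩ := Submodule.mkQ_surjective K₀ z
    obtain ⟨_, ⟨n, rfl⟩, hn⟩ := hK₀k k hz
    exact ⟨n, (map_smul K₀.mkQ _ _).symm.trans ((Submodule.Quotient.mk_eq_zero _).mpr hn)⟩
  suffices h : ∃ i, StrictFlatFP A f (G i) B N from
    h.imp fun i hi => (StrictFlatFP.of_surjective ρ hρ hρk).mpr hi
  let lM := LocalizedModule.mkLinearMap (Submonoid.powers fB) M
  let lN := (lM ∘ₗ ρ).restrictScalars A
  haveI hlN : IsLocalizedModule (Submonoid.powers f) lN := by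
    haveI : IsLocalizedModule (Submonoid.powers fB) (lM ∘ₗ ρ) :=
      { map_units := IsLocalizedModule.map_units lM
        surj := fun y => by
          obtain ⟨⟨x, s⟩, hx⟩ := IsLocalizedModule.surj (Submonoid.powers fB) lM y
          obtain ⟨z, rfl⟩ := hρ x
          exact ⟨⟨z, s⟩, hx⟩
        exists_of_eq := fun {z₁ z₂} h => by
          obtain ⟨c, hc⟩ := IsLocalizedModule.exists_of_eq (S := Submonoid.powers fB) (f := lM) h
          obtain ⟨n, hn⟩ := hρk ((c : B) • z₁ - (c : B) • z₂) (by
            rw [map_sub, map_smul, map_smul, sub_eq_zero]; exact hc)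
          refine ⟨⟨fB ^ n, n, rfl⟩ * c, ?_⟩
          rw [smul_sub, sub_eq_zero] at hn
          simpa [Submonoid.smul_def, mul_smul] using hn }
    exact isLocalizedModule_restrict f (lM ∘ₗ ρ)
  let L := LocalizedModule (Submonoid.powers fB) M
  -- the limit
  set fR := algebraMap A R f
  let BR := R ⊗[A] B
  let NR := BR ⊗[B] N
  set x := algebraMap A BR f with hx
  let T := FlatCA.powTorsion BR x NR
  let Q := NR ⧸ T
  have hxR : algebraMap R BR fR = x := (IsScalarTower.algebraMap_apply A R BR f).symm
  have hsmul : ∀ (n : ℕ) (z : NR), fR ^ n • z = x ^ n • z := fun n z => by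
    rw [← algebraMap_smul BR (fR ^ n) z, map_pow, hxR]
  have hbcN : IsBaseChange R ((TensorProduct.mk B BR N 1).restrictScalars A) :=
    isBaseChange_restrictScalars (A := A) (C := R) (TensorProduct.isBaseChange B N BR)
  let ℓ : NR →ₗ[R] R ⊗[A] L := (lN.baseChange R) ∘ₗ hbcN.equiv.symm.toLinearMap
  haveI hrt : IsLocalizedModule (Submonoid.powers f) (AlgebraTensorModule.rTensor A R lN) := inferInstance
  have hℓker : ∀ z, ℓ z = 0 → ∃ n : ℕ, fR ^ n • z = 0 := by
    intro z hz
    let z' := hbcN.equiv.symm z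
    have h1 : AlgebraTensorModule.rTensor A R lN (TensorProduct.comm A R N z') = 0 := by
      have e : ∀ w : R ⊗[A] N, AlgebraTensorModule.rTensor A R lN (TensorProduct.comm A R N w) =
          TensorProduct.comm A R L (lN.baseChange R w) := by
        intro w
        induction w with
        | zero => simp
        | tmul r n => simp [L]
        | add p q hp hq => simp only [map_add, hp, hq]
      rw [e, show lN.baseChange R z' = 0 from hz, map_zero]
    obtain ⟨⟨_, n, rfl⟩, hn⟩ := (IsLocalizedModule.eq_zero_iff (Submonoid.powers f) _).mp h1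
    refine ⟨n, hbcN.equiv.symm.injective ?_⟩
    refine (TensorProduct.comm A R N).injective ?_
    rw [map_zero, map_zero, map_smul, ← map_pow, algebraMap_smul, map_smul]
    exact hn
  have hℓsurj : ∀ y, ∃ (n : ℕ) (z : NR), ℓ z = fR ^ n • y := by
    intro y
    obtain ⟨⟨w, ⟨_, n, rfl⟩⟩, hw⟩ := IsLocalizedModule.surj (Submonoid.powers f)
      (AlgebraTensorModule.rTensor A R lN) (TensorProduct.comm A R L y)
    refine ⟨n, hbcN.equiv ((TensorProduct.comm A R N).symm w), (TensorProduct.comm A R L).injective ?_⟩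
    rw [← map_pow, algebraMap_smul, map_smul]
    refine Eq.trans ?_ hw.symm
    simp only [ℓ, LinearMap.coe_comp, LinearEquiv.coe_coe, Function.comp_apply, LinearEquiv.symm_apply_apply]
    clear hw
    induction w with
    | zero => simp
    | tmul n r => simp [L]
    | add p q hp hq => simp only [map_add, hp, hq]
  haveI : Module.Flat A L := hflat
  have hQflat : Module.Flat R Q := by
    have hreg : IsSMulRegular Q fR := fun p q h => by
      refine regular_quotient_powTorsion x NR ?_
      simp only at h ⊢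
      rw [← algebraMap_smul BR fR p, ← algebraMap_smul BR fR q, hxR] at h
      exact h
    let S := Submonoid.powers fR
    let ℓQ : Q →ₗ[R] R ⊗[A] L := (T.restrictScalars R).liftQ ℓ (fun z hz => by
      obtain ⟨n, hn⟩ := mem_powTorsion.mp hz
      have h2 : fR ^ n • ℓ z = 0 := by rw [← map_smul, hsmul, hn, map_zero]
      rw [← map_pow, algebraMap_smul] at h2
      have hu : TensorProduct.comm A R L (ℓ z) = 0 := ((Module.End.isUnit_iff _).mp (IsLocalizedModule.map_units
        (AlgebraTensorModule.rTensor A R lN) (⟨f ^ n, n, rfl⟩ : Submonoid.powers f))).1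
          (show (f ^ n) • TensorProduct.comm A R L (ℓ z) = (f ^ n) • (0 : L ⊗[A] R) by
            rw [← map_smul, h2, map_zero, smul_zero])
      exact (TensorProduct.comm A R L).injective (hu.trans (map_zero _).symm))
      ∘ₗ (Submodule.Quotient.restrictScalarsEquiv R T).symm.toLinearMap
    haveI : IsLocalizedModule S ℓQ :=
      { map_units := by
          rintro ⟨_, n, rfl⟩
          rw [Module.End.isUnit_iff]
          have h := (Module.End.isUnit_iff _).mp (IsLocalizedModule.map_units
            (AlgebraTensorModule.rTensor A R lN) (⟨f ^ n, n, rfl⟩ : Submonoid.powers f))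
          have h' := (TensorProduct.comm A R L).symm.bijective.comp (h.comp (TensorProduct.comm A R L).bijective)
          convert h' using 1
          ext y
          show fR ^ n • y = (TensorProduct.comm A R L).symm (f ^ n • TensorProduct.comm A R L y)
          rw [← map_smul, LinearEquiv.symm_apply_apply, ← map_pow, algebraMap_smul]
        surj := fun y => by
          obtain ⟨n, z, hz⟩ := hℓsurj y
          refine ⟨⟨Submodule.Quotient.mk z, ⟨fR ^ n, n, rfl⟩⟩, ?_⟩
          exact hz.symm
        exists_of_eq := fun {p q} h => by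
          obtain ⟨p, rfl⟩ := Submodule.Quotient.mk_surjective T p
          obtain ⟨q, rfl⟩ := Submodule.Quotient.mk_surjective T q
          obtain ⟨n, hn⟩ := hℓker (p - q) (by rw [map_sub, sub_eq_zero]; exact h)
          refine ⟨⟨fR ^ n, n, rfl⟩, ?_⟩
          rw [smul_sub, sub_eq_zero] at hn
          simp only [Submonoid.smul_def]
          rw [← Submodule.Quotient.mk_smul, ← Submodule.Quotient.mk_smul, hn] }
    exact hval.flat_of_regular hreg (Module.Flat.of_linearEquiv (IsLocalizedModule.iso S ℓQ))
  haveI : Module.FinitePresentation BR NR := Module.FinitePresentation.of_equiv (TensorProduct.isBaseChange B N BR).equiv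
  haveI : Module.Finite BR Q := Module.Finite.quotient BR T
  haveI : Module.Flat R Q := hQflat
  haveI hQfp : Module.FinitePresentation BR Q := by
    refine finitePresentation_of_flat_dense (A := R) Q (fun _ : Fin 1 => fR) (fun p q h => ?_) fun _ => ?_
    · have h0 := congrFun h 0
      exact IsLocalization.injective (Localization.Away fR) (Submonoid.powers_le.mpr hval.1) h0
    · rw [hxR]
      exact finitePresentation_localized_quotient x NR
  obtain ⟨t, ht⟩ := Module.FinitePresentation.fg_ker T.mkQ T.mkQ_surjective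
  rw [Submodule.ker_mkQ] at ht
  -- descend the torsion to a stage
  let gH : ∀ i j, i ≤ j → (G i ⊗[A] B) →ₐ[B] (G j ⊗[A] B) := fun i j h =>
    { Algebra.TensorProduct.map (g i j h) (AlgHom.id A B) with
      commutes' := fun b => by
        show Algebra.TensorProduct.map (g i j h) (AlgHom.id A B) ((1 : G i) ⊗ₜ b) = (1 : G j) ⊗ₜ b
        simp }
  let aH : ∀ i, (G i ⊗[A] B) →ₐ[B] BR := fun i =>
    { Algebra.TensorProduct.map (a i) (AlgHom.id A B) with
      commutes' := fun b => by
        show Algebra.TensorProduct.map (a i) (AlgHom.id A B) ((1 : G i) ⊗ₜ b) = (1 : R) ⊗ₜ b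
        simp }
  have hgH : ∀ i j (h : i ≤ j) (z : G i ⊗[A] B), gH i j h z = (g i j h).toLinearMap.rTensor B z := fun i j h z => by
    induction z with
    | zero => simp
    | tmul p b => rfl
    | add p q hp hq => simp only [map_add, hp, hq]
  have haH : ∀ i (z : G i ⊗[A] B), aH i z = (a i).toLinearMap.rTensor B z := fun i z => by
    induction z with
    | zero => simp
    | tmul p b => rfl
    | add p q hp hq => simp only [map_add, hp, hq]
  have hcolH : FlatLimHx.IsColim gH aH :=
    { dir := hcol.dir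
      ne := hcol.ne
      self := fun i z => by
        rw [hgH, show (g i i le_rfl).toLinearMap = LinearMap.id from LinearMap.ext (hcol.self i)]
        simp
      comp := fun i j k hij hjk z => by
        rw [hgH, hgH, hgH, ← LinearMap.rTensor_comp_apply]
        congr 2
        exact LinearMap.ext (hcol.comp i j k hij hjk)
      compat := fun i j h z => by
        rw [haH, haH, hgH, ← LinearMap.rTensor_comp_apply]
        congr 2
        exact LinearMap.ext (hcol.compat i j h)
      surj := fun y => by
        obtain ⟨i, w, hw⟩ := hcol.exists_tensor B y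
        exact ⟨i, w, (haH i w).trans hw⟩
      zero := fun i z hz => by
        obtain ⟨j, h, hj⟩ := hcol.exists_eq_zero B z ((haH i z).symm.trans hz)
        exact ⟨j, h, (hgH i j h z).trans hj⟩ }
  haveI := hcol.dir
  haveI := hcol.ne
  have hlift : ∀ z ∈ t, ∃ i, ∀ j, i ≤ j → ∃ w : (G j ⊗[A] B) ⊗[B] N,
      (∃ n : ℕ, algebraMap A ((G j ⊗[A] B)) f ^ n • w = 0) ∧ (aH j).toLinearMap.rTensor N w = z := by
    intro z hz
    obtain ⟨n, hn⟩ := mem_powTorsion.mp (ht.le (Submodule.subset_span hz))
    obtain ⟨i, w, rfl⟩ := hcolH.exists_tensor N z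
    have hsm : ∀ {C C' : Type u} [CommRing C] [Algebra A C] [Algebra B C] [IsScalarTower A B C]
        [CommRing C'] [Algebra A C'] [Algebra B C'] [IsScalarTower A B C'] (h : C →ₐ[B] C') (w : C ⊗[B] N) (k : ℕ),
        h.toLinearMap.rTensor N (algebraMap A C f ^ k • w) = algebraMap A C' f ^ k • h.toLinearMap.rTensor N w := by
      intro C C' _ _ _ _ _ _ _ _ h w k
      rw [IsScalarTower.algebraMap_apply A B C, IsScalarTower.algebraMap_apply A B C', ← map_pow (algebraMap B C),
        ← map_pow (algebraMap B C'), algebraMap_smul C, algebraMap_smul C', map_smul]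
    obtain ⟨j, hij, hj⟩ := hcolH.exists_eq_zero N (algebraMap A ((G i ⊗[A] B)) f ^ n • w) (by rw [hsm]; exact hn)
    refine ⟨j, fun k hk => ⟨(gH i k (hij.trans hk)).toLinearMap.rTensor N w, ⟨n, ?_⟩, ?_⟩⟩
    · have h1 := congrArg ((gH j k hk).toLinearMap.rTensor N) hj
      rw [← LinearMap.rTensor_comp_apply, map_zero, show (gH j k hk).toLinearMap ∘ₗ (gH i j hij).toLinearMap =
        (gH i k (hij.trans hk)).toLinearMap from LinearMap.ext (hcolH.comp i j k hij hk)] at h1
      rw [← hsm]
      exact h1
    · rw [← LinearMap.rTensor_comp_apply]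
      congr 2
      exact LinearMap.ext (hcolH.compat i k (hij.trans hk))
  refine Exists.elim (Finset.exists_le (t.attach.image fun z => (hlift z.1 z.2).choose)) fun i hi => ?_
  have hi₀ := fun z (hz : z ∈ t) => (hlift z hz).choose_spec
  choose w hwk hwa using fun z : t => hi₀ z.1 z.2 i (hi _ (Finset.mem_image_of_mem _ (Finset.mem_attach t z)))
  -- change the base to that stage
  let N₁ := (G i ⊗[A] B) ⊗[B] N
  let W : Submodule ((G i ⊗[A] B)) N₁ := Submodule.span ((G i ⊗[A] B)) (Set.range w)
  let N₂ := N₁ ⧸ W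
  haveI : Module.FinitePresentation ((G i ⊗[A] B)) N₁ :=
    Module.FinitePresentation.of_equiv (TensorProduct.isBaseChange B N ((G i ⊗[A] B))).equiv
  haveI : Module.FinitePresentation ((G i ⊗[A] B)) N₂ :=
    Module.finitePresentation_of_surjective W.mkQ W.mkQ_surjective (by
      rw [Submodule.ker_mkQ]; exact Submodule.fg_span (Set.finite_range w))
  letI : Algebra (G i) R := (a i).toRingHom.toAlgebra
  haveI : IsScalarTower A (G i) R := IsScalarTower.of_algebraMap_eq fun y => ((a i).commutes y).symm
  letI : Algebra ((G i ⊗[A] B)) BR := (aH i).toRingHom.toAlgebra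
  haveI : IsScalarTower B ((G i ⊗[A] B)) BR := IsScalarTower.of_algebraMap_eq fun y => ((aH i).commutes y).symm
  haveI : IsScalarTower (G i) R BR := IsScalarTower.of_algebraMap_eq fun y => rfl
  haveI : IsScalarTower (G i) ((G i ⊗[A] B)) BR := IsScalarTower.of_algebraMap_eq fun y => rfl
  haveI : IsScalarTower A (G i) BR := IsScalarTower.of_algebraMap_eq fun y => by
    rw [IsScalarTower.algebraMap_apply (G i) R BR, ← IsScalarTower.algebraMap_apply A (G i) R,
      ← IsScalarTower.algebraMap_apply]
  haveI : IsScalarTower A ((G i ⊗[A] B)) BR := IsScalarTower.of_algebraMap_eq fun y => by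
    rw [IsScalarTower.algebraMap_apply A (G i) ((G i ⊗[A] B)), ← IsScalarTower.algebraMap_apply (G i) ((G i ⊗[A] B)) BR,
      ← IsScalarTower.algebraMap_apply A (G i) BR]
  haveI : Algebra.IsPushout (G i) R ((G i ⊗[A] B)) BR := (Algebra.IsPushout.comp_iff A (G i) B ((G i ⊗[A] B))).mp inferInstance
  let φ₁ : N₁ →ₗ[(G i ⊗[A] B)] NR := (TensorProduct.isBaseChange B N ((G i ⊗[A] B))).lift (TensorProduct.mk B BR N 1)
  have hφ₁ : ∀ z : (G i ⊗[A] B) ⊗[B] N, φ₁ z = (aH i).toLinearMap.rTensor N z := fun z => by
    induction z using (TensorProduct.isBaseChange B N ((G i ⊗[A] B))).inductionOn with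
    | zero => simp
    | tmul n => rw [(TensorProduct.isBaseChange B N ((G i ⊗[A] B))).lift_eq]; simp; rfl
    | smul s z hz =>
      rw [map_smul, hz]
      clear hz
      induction z with
      | zero => simp
      | tmul p n =>
        rw [TensorProduct.smul_tmul']
        simp only [LinearMap.rTensor_tmul, AlgHom.toLinearMap_apply, smul_eq_mul, map_mul]
        rw [← algebraMap_smul BR s, TensorProduct.smul_tmul']
        rfl
      | add p q hp hq => simp only [map_add, smul_add, hp, hq]
    | add p q hp hq => simp only [map_add, hp, hq]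
  have hφ₁bc : IsBaseChange BR φ₁ := by
    refine IsBaseChange.of_comp (TensorProduct.isBaseChange B N ((G i ⊗[A] B))) ?_
    rw [(TensorProduct.isBaseChange B N ((G i ⊗[A] B))).lift_comp]
    exact TensorProduct.isBaseChange B N BR
  have hN₂bc := TensorProduct.isBaseChange ((G i ⊗[A] B)) N₂ BR
  obtain ⟨ρ', hρ', -, hker⟩ := exists_surjective_baseChange hφ₁bc hN₂bc W.mkQ W.mkQ_surjective
  have hkerT : LinearMap.ker ρ' = T := by
    rw [hker, Submodule.ker_mkQ]
    refine le_antisymm (Submodule.span_le.mpr ?_) ?_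
    · rintro _ ⟨z, hz, rfl⟩
      have hmap : W.map φ₁ ≤ T.restrictScalars ((G i ⊗[A] B)) := by
        rw [Submodule.map_span_le]
        rintro _ ⟨z, rfl⟩
        rw [hφ₁, hwa]
        exact ht.le (Submodule.subset_span z.2)
      exact hmap ⟨z, hz, rfl⟩
    · rw [← ht, Submodule.span_le]
      intro z hz
      refine Submodule.subset_span ⟨w ⟨z, hz⟩, Submodule.subset_span ⟨_, rfl⟩, ?_⟩
      rw [hφ₁, hwa]
  have hflat₂ : Module.Flat R (R ⊗[G i] N₂) := by
    have e₁ : Q ≃ₗ[BR] BR ⊗[(G i ⊗[A] B)] N₂ :=
      (Submodule.quotEquivOfEq _ _ hkerT.symm).trans (ρ'.quotKerEquivOfSurjective hρ')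
    haveI : Module.Flat R (BR ⊗[(G i ⊗[A] B)] N₂) := Module.Flat.of_linearEquiv (e₁.symm.restrictScalars R)
    exact Module.Flat.of_linearEquiv (isBaseChange_restrictScalars (A := G i) (C := R) hN₂bc).equiv
  let κ := {j : ι // i ≤ j}
  letI : ∀ j : κ, Algebra (G i) (G j.1) := fun j => (g i j.1 j.2).toRingHom.toAlgebra
  haveI : ∀ j : κ, IsScalarTower A (G i) (G j.1) := fun j =>
    IsScalarTower.of_algebraMap_eq fun y => ((g i j.1 j.2).commutes y).symm
  have hcolκ : FlatLimHx.IsColim (R := G i) (G := fun j : κ => G j.1)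
      (fun j k h => { g j.1 k.1 h with commutes' := fun y => hcol.comp i j.1 k.1 j.2 h y })
      (fun j : κ => { a j.1 with commutes' := fun y => hcol.compat i j.1 j.2 y }) :=
    { dir := ⟨fun j k => by
        obtain ⟨l, hl, hl'⟩ := directed_of (· ≤ ·) j.1 k.1
        exact ⟨⟨l, j.2.trans hl⟩, hl, hl'⟩⟩
      ne := ⟨⟨i, le_rfl⟩⟩
      self := fun j y => hcol.self j.1 y
      comp := fun j k l hjk hkl y => hcol.comp j.1 k.1 l.1 hjk hkl y
      compat := fun j k h y => hcol.compat j.1 k.1 h y
      surj := fun y => by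
        obtain ⟨j, z, rfl⟩ := hcol.surj y
        obtain ⟨l, hl, hl'⟩ := directed_of (· ≤ ·) i j
        exact ⟨⟨l, hl⟩, g j l hl' z, hcol.compat j l hl' z⟩
      zero := fun j y hy => by
        obtain ⟨k, hk, hk0⟩ := hcol.zero j.1 y hy
        exact ⟨⟨k, j.2.trans hk⟩, hk, hk0⟩ }
  obtain ⟨j, hj⟩ := exists_stage_of_flat_limit (A := G i) (f := algebraMap A (G i) f) (B := (G i ⊗[A] B)) hcolκ
    (fun j => by rw [← IsScalarTower.algebraMap_apply A (G i) (G j.1)]; exact hf j.1) N₂ hflat₂
  refine ⟨j.1, StrictFlatFP.trans (C₁ := G i) ((StrictFlatFP.of_surjective W.mkQ W.mkQ_surjective fun z hz => ?_).mp hj)⟩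
  rw [← IsScalarTower.algebraMap_apply A (G i) ((G i ⊗[A] B))]
  have hW : W ≤ FlatCA.powTorsion ((G i ⊗[A] B)) (algebraMap A ((G i ⊗[A] B)) f) N₁ := Submodule.span_le.mpr (by
    rintro _ ⟨z, rfl⟩
    exact mem_powTorsion.mpr (hwk z))
  exact mem_powTorsion.mp (hW ((Submodule.Quotient.mk_eq_zero W).mp hz))

end Groth.Agent.Flattening12
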