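import Groth.Prelude.Def_FlatCA
import Mathlib.RingTheory.IsTensorProduct
import Mathlib.RingTheory.Flat.Basic
import Mathlib.RingTheory.Finiteness.Basic
import Mathlib.Algebra.Module.FinitePresentation
import Mathlib.Algebra.Module.LocalizedModule.Basic

/-!
# Strict transforms of modules along a change of rings
-/

set_option autoImplicit false
universe u

namespace Groth.Agent.Flattening12

theorem mem_powTorsion {P : Type u} [CommRing P] {x : P} {M : Type u} [AddCommGroup M] [Module P M] {m : M} :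
    m ∈ FlatCA.powTorsion P x M ↔ ∃ n : ℕ, x ^ n • m = 0 := by
  rw [FlatCA.powTorsion, Submodule.mem_iSup_of_directed _ (Monotone.directed_le fun a b hab =>
    Submodule.torsionBy_le_torsionBy_of_dvd _ _ (pow_dvd_pow x hab))]
  simp only [Submodule.mem_torsionBy_iff]

theorem regular_quotient_powTorsion {P : Type u} [CommRing P] (x : P) (M : Type u) [AddCommGroup M] [Module P M] :
    IsSMulRegular (M ⧸ FlatCA.powTorsion P x M) x := by
  intro a b h
  obtain ⟨p, rfl⟩ := Submodule.Quotient.mk_surjective _ a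
  obtain ⟨q, rfl⟩ := Submodule.Quotient.mk_surjective _ b
  change x • Submodule.Quotient.mk p = x • Submodule.Quotient.mk q at h
  rw [← Submodule.Quotient.mk_smul, ← Submodule.Quotient.mk_smul, Submodule.Quotient.eq, ← smul_sub,
    mem_powTorsion] at h
  obtain ⟨n, hn⟩ := h
  rw [Submodule.Quotient.eq, mem_powTorsion]
  exact ⟨n + 1, by rw [pow_succ, mul_smul]; exact hn⟩

theorem powTorsion_eq_bot {P : Type u} [CommRing P] {x : P} {M : Type u} [AddCommGroup M] [Module P M]
    (h : IsSMulRegular M x) : FlatCA.powTorsion P x M = ⊥ :=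
  (Submodule.eq_bot_iff _).mpr fun _ hm => by
    obtain ⟨n, hn⟩ := mem_powTorsion.mp hm
    exact h.pow n (hn.trans (smul_zero _).symm)

section BaseChangeSurj

variable {B B' : Type u} [CommRing B] [CommRing B'] [Algebra B B']
  {M₁ M₂ : Type u} [AddCommGroup M₁] [Module B M₁] [AddCommGroup M₂] [Module B M₂]
  {M₁' M₂' : Type u} [AddCommGroup M₁'] [Module B M₁'] [Module B' M₁'] [IsScalarTower B B' M₁']
  [AddCommGroup M₂'] [Module B M₂'] [Module B' M₂'] [IsScalarTower B B' M₂']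
  {φ₁ : M₁ →ₗ[B] M₁'} {φ₂ : M₂ →ₗ[B] M₂'}

/-- The base change of a surjection is the quotient by the image of its kernel. -/
theorem exists_surjective_baseChange (h₁ : IsBaseChange B' φ₁) (h₂ : IsBaseChange B' φ₂) (ρ : M₁ →ₗ[B] M₂)
    (hρ : Function.Surjective ρ) :
    ∃ ρ' : M₁' →ₗ[B'] M₂', Function.Surjective ρ' ∧ (∀ m, ρ' (φ₁ m) = φ₂ (ρ m)) ∧
      LinearMap.ker ρ' = Submodule.span B' (φ₁ '' (LinearMap.ker ρ : Set M₁)) := by
  let K := Submodule.span B' (φ₁ '' (LinearMap.ker ρ : Set M₁))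
  let ρ' := h₁.lift (φ₂ ∘ₗ ρ)
  have hφ : ∀ m, ρ' (φ₁ m) = φ₂ (ρ m) := h₁.lift_eq _
  have hle : K ≤ LinearMap.ker ρ' := Submodule.span_le.mpr (by
    rintro _ ⟨m, hm, rfl⟩
    exact (hφ m).trans (by rw [LinearMap.mem_ker.mp hm, map_zero]))
  let ν₀ : M₁ →ₗ[B] M₁' ⧸ K := (K.mkQ.restrictScalars B) ∘ₗ φ₁
  let ν : M₂ →ₗ[B] M₁' ⧸ K :=
    (LinearMap.ker ρ).liftQ ν₀ (fun m hm => (Submodule.Quotient.mk_eq_zero _).mpr (Submodule.subset_span ⟨m, hm, rfl⟩))
      ∘ₗ (ρ.quotKerEquivOfSurjective hρ).symm.toLinearMap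
  have hν : ∀ m, ν (ρ m) = K.mkQ (φ₁ m) := fun m => by
    have : (ρ.quotKerEquivOfSurjective hρ).symm (ρ m) = Submodule.Quotient.mk m :=
      (LinearEquiv.symm_apply_eq _).mpr rfl
    simp only [ν, LinearMap.coe_comp, Function.comp_apply, LinearEquiv.coe_coe, this, Submodule.liftQ_apply]
    rfl
  have hs : (h₂.lift ν) ∘ₗ ρ' = K.mkQ := h₁.algHom_ext _ _ fun m => by
    rw [LinearMap.comp_apply, hφ, h₂.lift_eq, hν]
  refine ⟨ρ', fun y => ?_, hφ, le_antisymm (fun x hx => ?_) hle⟩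
  · induction y using h₂.inductionOn with
    | zero => exact ⟨0, map_zero _⟩
    | tmul m => obtain ⟨m, rfl⟩ := hρ m; exact ⟨φ₁ m, hφ m⟩
    | smul s y hy => obtain ⟨x, rfl⟩ := hy; exact ⟨s • x, map_smul _ _ _⟩
    | add y z hy hz => obtain ⟨x, rfl⟩ := hy; obtain ⟨w, rfl⟩ := hz; exact ⟨x + w, map_add _ _ _⟩
  · have := LinearMap.congr_fun hs x
    rw [LinearMap.comp_apply, LinearMap.mem_ker.mp hx, map_zero] at this
    exact (Submodule.Quotient.mk_eq_zero _).mp this.symm

/-- A surjection with torsion kernel does not change strict transforms. -/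
theorem exists_quotient_powTorsion_equiv (h₁ : IsBaseChange B' φ₁) (h₂ : IsBaseChange B' φ₂) (ρ : M₁ →ₗ[B] M₂)
    (hρ : Function.Surjective ρ) (b : B) (hb : ∀ m, ρ m = 0 → ∃ n : ℕ, b ^ n • m = 0) :
    Nonempty ((M₁' ⧸ FlatCA.powTorsion B' (algebraMap B B' b) M₁') ≃ₗ[B']
      M₂' ⧸ FlatCA.powTorsion B' (algebraMap B B' b) M₂') := by
  set x := algebraMap B B' b
  set T₁ := FlatCA.powTorsion B' x M₁'
  set T₂ := FlatCA.powTorsion B' x M₂'
  obtain ⟨ρ', hρ', hφ, hker⟩ := exists_surjective_baseChange h₁ h₂ ρ hρ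
  have hK : LinearMap.ker ρ' ≤ T₁ := by
    rw [hker, Submodule.span_le]
    rintro _ ⟨m, hm, rfl⟩
    obtain ⟨n, hn⟩ := hb m hm
    exact mem_powTorsion.mpr ⟨n, by rw [← map_pow, algebraMap_smul, ← map_smul, hn, map_zero]⟩
  have hpre : LinearMap.ker (T₂.mkQ ∘ₗ ρ') = T₁ := by
    rw [LinearMap.ker_comp, Submodule.ker_mkQ]
    refine le_antisymm (fun z hz => ?_) fun z hz => ?_
    · obtain ⟨n, hn⟩ := mem_powTorsion.mp (Submodule.mem_comap.mp hz)
      obtain ⟨k, hk⟩ := mem_powTorsion.mp (hK (show x ^ n • z ∈ LinearMap.ker ρ' by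
        rw [LinearMap.mem_ker, map_smul, hn]))
      exact mem_powTorsion.mpr ⟨k + n, by rw [pow_add, mul_smul]; exact hk⟩
    · obtain ⟨n, hn⟩ := mem_powTorsion.mp hz
      exact Submodule.mem_comap.mpr (mem_powTorsion.mpr ⟨n, by rw [← map_smul, hn, map_zero]⟩)
  exact ⟨(Submodule.quotEquivOfEq _ _ hpre.symm).trans
    ((T₂.mkQ ∘ₗ ρ').quotKerEquivOfSurjective ((Submodule.mkQ_surjective _).comp hρ'))⟩

end BaseChangeSurj

/-- The strict transforms of `M` along `A → C` are flat over `C` and finitely presented over the new algebra. -/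
def StrictFlatFP (A : Type u) [CommRing A] (f : A) (C : Type u) [CommRing C] [Algebra A C]
    (B : Type u) [CommRing B] [Algebra A B] (M : Type u) [AddCommGroup M] [Module B M] : Prop :=
  ∀ (B' M' : Type u) [CommRing B'] [Algebra B B'] [Algebra C B'] [Algebra A B'] [IsScalarTower A B B']
    [IsScalarTower A C B'] [Algebra.IsPushout A C B B']
    [AddCommGroup M'] [Module B M'] [Module B' M'] [IsScalarTower B B' M'] [Module C M'] [IsScalarTower C B' M']
    (φ : M →ₗ[B] M'), IsBaseChange B' φ →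
      Module.Flat C (M' ⧸ FlatCA.powTorsion B' (algebraMap A B' f) M') ∧
        Module.FinitePresentation B' (M' ⧸ FlatCA.powTorsion B' (algebraMap A B' f) M')

variable {A : Type u} [CommRing A] {f : A} {C : Type u} [CommRing C] [Algebra A C]
  {B : Type u} [CommRing B] [Algebra A B]

open TensorProduct

theorem StrictFlatFP.of_surjective {M₁ M₂ : Type u} [AddCommGroup M₁] [Module B M₁] [AddCommGroup M₂]
    [Module B M₂] (ρ : M₁ →ₗ[B] M₂) (hρ : Function.Surjective ρ)
    (hker : ∀ m, ρ m = 0 → ∃ n : ℕ, algebraMap A B f ^ n • m = 0) :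
    StrictFlatFP A f C B M₂ ↔ StrictFlatFP A f C B M₁ := by
  constructor
  · intro h B' M₁' _ _ _ _ _ _ _ _ _ _ _ _ _ φ₁ h₁
    obtain ⟨e⟩ := exists_quotient_powTorsion_equiv (b := algebraMap A B f) h₁
      (TensorProduct.isBaseChange B M₂ B') ρ hρ hker
    rw [← IsScalarTower.algebraMap_apply] at e
    obtain ⟨hf, hp⟩ := h B' (B' ⊗[B] M₂) _ (TensorProduct.isBaseChange B M₂ B')
    exact ⟨Module.Flat.of_linearEquiv (e.restrictScalars C), Module.FinitePresentation.of_equiv e.symm⟩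
  · intro h B' M₂' _ _ _ _ _ _ _ _ _ _ _ _ _ φ₂ h₂
    obtain ⟨e⟩ := exists_quotient_powTorsion_equiv (b := algebraMap A B f)
      (TensorProduct.isBaseChange B M₁ B') h₂ ρ hρ hker
    rw [← IsScalarTower.algebraMap_apply] at e
    obtain ⟨hf, hp⟩ := h B' (B' ⊗[B] M₁) _ (TensorProduct.isBaseChange B M₁ B')
    exact ⟨Module.Flat.of_linearEquiv (e.symm.restrictScalars C), Module.FinitePresentation.of_equiv e⟩

/-- Over a pushout of algebras, base change of modules is base change along the base. -/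
theorem isBaseChange_restrictScalars {B' : Type u} [CommRing B'] [Algebra B B'] [Algebra C B'] [Algebra A B']
    [IsScalarTower A B B'] [IsScalarTower A C B'] [Algebra.IsPushout A C B B']
    {M : Type u} [AddCommGroup M] [Module B M] [Module A M] [IsScalarTower A B M]
    {M' : Type u} [AddCommGroup M'] [Module B M'] [Module B' M'] [IsScalarTower B B' M'] [Module C M']
    [IsScalarTower C B' M'] [Module A M'] [IsScalarTower A B M'] [IsScalarTower A C M']
    {φ : M →ₗ[B] M'} (hφ : IsBaseChange B' φ) : IsBaseChange C (φ.restrictScalars A) :=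
  IsBaseChange.of_equiv ((Algebra.IsPushout.cancelBaseChange A C B B' M).symm ≪≫ₗ hφ.equiv.restrictScalars C)
    fun m => by
      simp [IsBaseChange.equiv_tmul]

end Groth.Agent.Flattening12
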