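import Groth.Agent.Flattening12.Sheaf
import Mathlib.AlgebraicGeometry.Morphisms.FlatMono
import Mathlib.AlgebraicGeometry.Morphisms.FinitePresentation
import Mathlib.RingTheory.RingHom.Flat
import Mathlib.RingTheory.RingHom.FinitePresentation

/-!
# Strict transforms of schemes
-/

set_option backward.isDefEq.respectTransparency false
set_option backward.isDefEq.respectTransparency.types false
set_option linter.style.haveILetI false
set_option autoImplicit false
universe u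

open CategoryTheory Limits AlgebraicGeometry TopologicalSpace Opposite TensorProduct

namespace Groth.Agent.Flattening12

attribute [local instance] Algebra.TensorProduct.rightAlgebra

/-- A quotient of a finitely presented algebra which is finitely presented as a module is so as an algebra. -/
theorem algebra_finitePresentation_of_module {R B Q : Type u} [CommRing R] [CommRing B] [CommRing Q] [Algebra R B]
    [Algebra R Q] [Algebra B Q] [IsScalarTower R B Q] [Algebra.FinitePresentation R B]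
    (hsurj : Function.Surjective (algebraMap B Q)) [Module.FinitePresentation B Q] :
    Algebra.FinitePresentation R Q :=
  Algebra.FinitePresentation.of_surjective (f := IsScalarTower.toAlgHom R B Q) hsurj
    (Module.FinitePresentation.fg_ker (Algebra.linearMap B Q) hsurj)

variable {X S : Scheme.{u}} (f : X ⟶ S)

/-- The ring of an affine over the good open is flat and finitely presented. -/
theorem flat_finitePresentation_appLE (U : S.Opens) [Flat (f ∣_ U)] [LocallyOfFinitePresentation (f ∣_ U)]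
    {Vs : S.Opens} (hVs : IsAffineOpen Vs) {D : X.Opens} (hD : IsAffineOpen D) (e : D ≤ f ⁻¹ᵁ Vs)
    (hDU : D ≤ f ⁻¹ᵁ U) : (f.appLE Vs D e).hom.Flat ∧ (f.appLE Vs D e).hom.FinitePresentation := by
  let O := f ⁻¹ᵁ U
  haveI : Flat (O.ι ≫ f) := by rw [← morphismRestrict_ι]; infer_instance
  haveI : LocallyOfFinitePresentation (O.ι ≫ f) := by rw [← morphismRestrict_ι]; infer_instance
  have hr : D ≤ O.ι.opensRange := by rw [Scheme.Opens.opensRange_ι]; exact hDU
  have hW : IsAffineOpen (O.ι ⁻¹ᵁ D) := hD.preimage_of_isOpenImmersion O.ι hr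
  haveI := O.ι.isIso_app D hr
  let i := asIso (O.ι.app D)
  have he : O.ι ⁻¹ᵁ D ≤ (O.ι ≫ f) ⁻¹ᵁ Vs := fun x hx => e hx
  have h1 : f.appLE Vs D e ≫ i.hom = (O.ι ≫ f).appLE Vs (O.ι ⁻¹ᵁ D) he := by
    show _ ≫ O.ι.app D = _
    rw [Scheme.Hom.app_eq_appLE, Scheme.Hom.appLE_comp_appLE]
  have h2 : f.appLE Vs D e = (O.ι ≫ f).appLE Vs (O.ι ⁻¹ᵁ D) he ≫ i.inv := by
    rw [← h1, Category.assoc, Iso.hom_inv_id, Category.comp_id]
  rw [h2, CommRingCat.hom_comp]
  exact ⟨((O.ι ≫ f).flat_appLE hVs hW he).comp (.of_bijective (ConcreteCategory.bijective_of_isIso i.inv)),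
    (RingHom.FinitePresentation.of_bijective (ConcreteCategory.bijective_of_isIso i.inv)).comp
      ((O.ι ≫ f).finitePresentation_appLE hVs hW he)⟩

/-- The hypotheses of the local flattening theorem for the ring of an affine. -/
theorem localized_good_ring (U : S.Opens) [Flat (f ∣_ U)] [LocallyOfFinitePresentation (f ∣_ U)] (Vs : S.affineOpens)
    {P : X.Opens} (hP : IsAffineOpen P) (e : P ≤ f ⁻¹ᵁ Vs.1) [Algebra Γ(S, Vs.1) Γ(X, P)]
    (halg : algebraMap Γ(S, Vs.1) Γ(X, P) = (f.appLE Vs.1 P e).hom)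
    (B₀ : Type u) [CommRing B₀] [Algebra Γ(S, Vs.1) B₀] [Algebra.FinitePresentation Γ(S, Vs.1) B₀]
    [Algebra B₀ Γ(X, P)] [IsScalarTower Γ(S, Vs.1) B₀ Γ(X, P)] (hsurj : Function.Surjective (algebraMap B₀ Γ(X, P)))
    {r : Γ(S, Vs.1)} (hr : S.basicOpen r ≤ U) :
    Module.Flat Γ(S, Vs.1) (LocalizedModule (Submonoid.powers (algebraMap Γ(S, Vs.1) B₀ r)) Γ(X, P)) ∧
      Module.FinitePresentation (Localization.Away (algebraMap Γ(S, Vs.1) B₀ r))
        (LocalizedModule (Submonoid.powers (algebraMap Γ(S, Vs.1) B₀ r)) Γ(X, P)) := by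
  let b₀ := algebraMap Γ(S, Vs.1) B₀ r
  let b : Γ(X, P) := (f.appLE Vs.1 P e).hom r
  have hb : algebraMap B₀ Γ(X, P) b₀ = b := by
    rw [← IsScalarTower.algebraMap_apply, halg]
  have hD : X.basicOpen b = P ⊓ f ⁻¹ᵁ S.basicOpen r := Scheme.basicOpen_appLE f P Vs.1 e r
  have hDU : X.basicOpen b ≤ f ⁻¹ᵁ U := by
    rw [hD]; exact fun x hx => hr hx.2
  let R := Γ(S, Vs.1)
  let PD := Γ(X, X.basicOpen b)
  let eD : X.basicOpen b ≤ f ⁻¹ᵁ Vs.1 := (X.basicOpen_le b).trans e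
  letI : Algebra Γ(X, P) PD := (X.presheaf.map (homOfLE (X.basicOpen_le b)).op).hom.toAlgebra
  letI : Algebra R PD := (f.appLE Vs.1 (X.basicOpen b) eD).hom.toAlgebra
  haveI : IsScalarTower R Γ(X, P) PD := .of_algebraMap_eq fun a => by
    rw [halg]
    exact congr($((Scheme.Hom.appLE_map f e (homOfLE (X.basicOpen_le b)).op).symm).hom a)
  letI : Algebra B₀ PD := ((algebraMap Γ(X, P) PD).comp (algebraMap B₀ Γ(X, P))).toAlgebra
  haveI : IsScalarTower B₀ Γ(X, P) PD := .of_algebraMap_eq' rfl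
  haveI : IsScalarTower R B₀ PD := .of_algebraMap_eq fun a => by
    rw [IsScalarTower.algebraMap_apply B₀ Γ(X, P) PD, ← IsScalarTower.algebraMap_apply R B₀ Γ(X, P),
      ← IsScalarTower.algebraMap_apply]
  haveI hloc : IsLocalization.Away b PD := hP.isLocalization_basicOpen b
  let S' := Submonoid.powers b₀
  haveI : IsLocalization (Algebra.algebraMapSubmonoid Γ(X, P) S') PD := by
    rw [Algebra.algebraMapSubmonoid_powers, hb]; exact hloc
  let ρ : Γ(X, P) →ₗ[B₀] PD := (IsScalarTower.toAlgHom B₀ Γ(X, P) PD).toLinearMap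
  haveI : IsLocalizedModule S' ρ := isLocalizedModule_iff_isLocalization.mpr inferInstance
  obtain ⟨hflat, hfp⟩ := flat_finitePresentation_appLE f U Vs.2 (hP.basicOpen b) eD hDU
  haveI : Module.Flat R PD := hflat
  haveI : Algebra.FinitePresentation R PD := hfp
  let lk := LocalizedModule.mkLinearMap S' Γ(X, P)
  refine ⟨Module.Flat.of_linearEquiv ((IsLocalizedModule.iso S' ρ).restrictScalars R), ?_⟩
  let L := Localization.Away b₀
  have hbu : IsUnit (algebraMap B₀ PD b₀) := by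
    rw [IsScalarTower.algebraMap_apply B₀ Γ(X, P) PD, hb]
    exact IsLocalization.Away.algebraMap_isUnit b
  letI : Algebra L PD := (IsLocalization.Away.lift b₀ hbu : L →+* PD).toAlgebra
  haveI : IsScalarTower B₀ L PD := .of_algebraMap_eq fun y => (IsLocalization.Away.lift_eq (S := L) b₀ hbu y).symm
  haveI : IsScalarTower R L PD := .of_algebraMap_eq fun a => by
    rw [IsScalarTower.algebraMap_apply R B₀ L, ← IsScalarTower.algebraMap_apply B₀ L PD,
      ← IsScalarTower.algebraMap_apply]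
  have hLsurj : Function.Surjective (algebraMap L PD) := fun y => by
    obtain ⟨⟨p, ⟨_, hm⟩⟩, hp⟩ := IsLocalization.surj (Algebra.algebraMapSubmonoid Γ(X, P) S') y
    obtain ⟨_, ⟨k, rfl⟩, rfl⟩ := hm
    obtain ⟨q, rfl⟩ := hsurj p
    refine ⟨IsLocalization.mk' L q (⟨b₀ ^ k, k, rfl⟩ : S'), ?_⟩
    refine (hbu.pow k).mul_left_injective ?_
    show algebraMap L PD _ * algebraMap B₀ PD b₀ ^ k = y * algebraMap B₀ PD b₀ ^ k
    have key := congrArg (algebraMap L PD) (IsLocalization.mk'_spec L q (⟨b₀ ^ k, k, rfl⟩ : S'))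
    rw [map_mul, ← IsScalarTower.algebraMap_apply B₀ L PD, ← IsScalarTower.algebraMap_apply B₀ L PD, map_pow] at key
    refine key.trans ?_
    rw [← map_pow, IsScalarTower.algebraMap_apply B₀ Γ(X, P) PD (b₀ ^ k),
      IsScalarTower.algebraMap_apply B₀ Γ(X, P) PD q]
    exact hp.symm
  haveI : Algebra.FinitePresentation B₀ L := IsLocalization.Away.finitePresentation b₀
  haveI : Algebra.FinitePresentation R L := Algebra.FinitePresentation.trans R B₀ L
  haveI : Module.FinitePresentation L PD :=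
    Module.finitePresentation_of_surjective (Algebra.linearMap L PD) hLsurj
      (Algebra.FinitePresentation.ker_fG_of_surjective (IsScalarTower.toAlgHom R L PD) hLsurj)
  exact Module.FinitePresentation.of_equiv ((IsLocalizedModule.isBaseChange S' L ρ).equiv.symm.trans
    (IsLocalizedModule.isBaseChange S' L lk).equiv)

variable {f}

/-- Over a good affine of a model the strict transform of a scheme is flat and finitely presented. -/
theorem strictTransform_ring_good {Vs : S.affineOpens} {P : X.Opens}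
    (hP : IsAffineOpen P) (eP : P ≤ f ⁻¹ᵁ Vs.1) [Algebra Γ(S, Vs.1) Γ(X, P)]
    (halg : algebraMap Γ(S, Vs.1) Γ(X, P) = (f.appLE Vs.1 P eP).hom)
    (B₀ : Type u) [CommRing B₀] [Algebra Γ(S, Vs.1) B₀] [Algebra.FinitePresentation Γ(S, Vs.1) B₀]
    [Algebra B₀ Γ(X, P)] [IsScalarTower Γ(S, Vs.1) B₀ Γ(X, P)] (hsurj : Function.Surjective (algebraMap B₀ Γ(X, P)))
    {Y X' : Scheme.{u}} {b : Y ⟶ S} {Wc : Y.affineOpens}
    (eW : Wc.1 ≤ b ⁻¹ᵁ Vs.1) {𝓘 : S.IdealSheafData} {c : Γ(Y, Wc.1)}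
    (hc : (𝓘.comap b).ideal Wc = Ideal.span {c}) (hs : StrictOn b Wc eW c B₀ Γ(X, P))
    {p₁ : X' ⟶ X} {p₂ : X' ⟶ Y} (sq : IsPullback p₁ p₂ f b) (𝒥 : X'.IdealSheafData)
    (h𝒥 : ∀ (V : X'.affineOpens) (a : Γ(X', V.1)), a ∈ 𝒥.ideal V ↔
      BlowUp.KilledByPowerNear ((𝓘.comap f).comap p₁) (Coh.structureModule X') V a) :
    ∃ (W : X'.affineOpens) (e : W.1 ≤ p₂ ⁻¹ᵁ Wc.1), W.1 = p₁ ⁻¹ᵁ P ⊓ p₂ ⁻¹ᵁ Wc.1 ∧
      ∃ e' : 𝒥.subschemeι ⁻¹ᵁ W.1 ≤ (𝒥.subschemeι ≫ p₂) ⁻¹ᵁ Wc.1,
      ((𝒥.subschemeι ≫ p₂).appLE Wc.1 (𝒥.subschemeι ⁻¹ᵁ W.1) e').hom.Flat ∧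
        ((𝒥.subschemeι ≫ p₂).appLE Wc.1 (𝒥.subschemeι ⁻¹ᵁ W.1) e').hom.FinitePresentation := by
  let W : X'.Opens := p₁ ⁻¹ᵁ P ⊓ p₂ ⁻¹ᵁ Wc.1
  have hW : IsAffineOpen W := by
    haveI : IsAffine _ := Vs.2
    haveI : IsAffine _ := Wc.2
    haveI : IsAffine _ := hP
    exact .of_isIso (Scheme.Hom.isPullback_resLE sq eW eP (UY := W) rfl).isoPullback.hom
  have hpo := (isIso_pushoutSection_iff sq eW eP (UY := W) rfl).mp
    (isIso_pushoutSection_of_isAffineOpen sq eW eP rfl Vs.2 Wc.2 hP)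
  let R := Γ(S, Vs.1)
  let CW := Γ(Y, Wc.1)
  let T := Γ(X', W)
  letI : Algebra R CW := (b.appLE Vs.1 Wc.1 eW).hom.toAlgebra
  letI : Algebra Γ(X, P) T := (p₁.appLE P W inf_le_left).hom.toAlgebra
  letI : Algebra CW T := (p₂.appLE Wc.1 W inf_le_right).hom.toAlgebra
  letI : Algebra R T := ((algebraMap Γ(X, P) T).comp (algebraMap R Γ(X, P))).toAlgebra
  haveI : IsScalarTower R Γ(X, P) T := .of_algebraMap_eq fun _ => rfl
  haveI : IsScalarTower R CW T := .of_algebraMap_eq fun r => by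
    rw [IsScalarTower.algebraMap_apply R Γ(X, P) T, halg]
    exact congr($(hpo.w).hom r)
  haveI : Algebra.IsPushout R CW Γ(X, P) T := by
    refine CommRingCat.isPushout_iff_isPushout.mp ?_
    rw [halg]
    exact hpo.flip
  letI : Algebra B₀ T := ((algebraMap Γ(X, P) T).comp (algebraMap B₀ Γ(X, P))).toAlgebra
  haveI : IsScalarTower B₀ Γ(X, P) T := .of_algebraMap_eq' rfl
  haveI : IsScalarTower R B₀ T := .of_algebraMap_eq fun a => by
    rw [IsScalarTower.algebraMap_apply B₀ Γ(X, P) T, ← IsScalarTower.algebraMap_apply R B₀ Γ(X, P),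
      ← IsScalarTower.algebraMap_apply]
  let ψ : (CW ⊗[R] B₀) →ₐ[R] T := Algebra.TensorProduct.lift (IsScalarTower.toAlgHom R CW T)
    (IsScalarTower.toAlgHom R B₀ T) fun _ _ => .all _ _
  letI : Algebra (CW ⊗[R] B₀) T := ψ.toRingHom.toAlgebra
  haveI : IsScalarTower R (CW ⊗[R] B₀) T := .of_algebraMap_eq fun x => (ψ.commutes x).symm
  haveI : IsScalarTower CW (CW ⊗[R] B₀) T := .of_algebraMap_eq fun x => by
    show _ = ψ (x ⊗ₜ 1)
    simp [ψ]
  haveI : IsScalarTower B₀ (CW ⊗[R] B₀) T := .of_algebraMap_eq fun x => by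
    show _ = ψ (1 ⊗ₜ x)
    simp [ψ]
  haveI : Algebra.IsPushout R B₀ CW (CW ⊗[R] B₀) :=
    Algebra.IsPushout.symm (inferInstance : Algebra.IsPushout R CW B₀ (CW ⊗[R] B₀))
  haveI : Algebra.IsPushout R Γ(X, P) CW T :=
    Algebra.IsPushout.symm (inferInstance : Algebra.IsPushout R CW Γ(X, P) T)
  haveI h23 : Algebra.IsPushout B₀ (CW ⊗[R] B₀) Γ(X, P) T :=
    Algebra.IsPushout.symm ((Algebra.IsPushout.comp_iff R B₀ CW (CW ⊗[R] B₀)).mp inferInstance :
      Algebra.IsPushout B₀ Γ(X, P) (CW ⊗[R] B₀) T)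
  obtain ⟨hflat, hfp⟩ := hs (CW ⊗[R] B₀) T (IsScalarTower.toAlgHom B₀ Γ(X, P) T).toLinearMap
    (h23.1)
  let B' := CW ⊗[R] B₀
  set x : B' := algebraMap CW B' c with hx
  set xT : T := algebraMap CW T c
  have hxT : algebraMap B' T x = xT := (IsScalarTower.algebraMap_apply CW B' T c).symm
  have hE : ∀ n : ℕ, (((𝓘.comap f).comap p₁) ^ n).ideal ⟨W, hW⟩ = Ideal.span {xT ^ n} := fun n => by
    rw [Scheme.IdealSheafData.ideal_pow, Pi.pow_apply, ← Scheme.IdealSheafData.comap_comp, sq.w,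
      Scheme.IdealSheafData.comap_comp,
      ModPairLib.ideal_comap _ p₂ Wc ⟨W, hW⟩ (inf_le_right : W ≤ _), hc, Ideal.map_span, Set.image_singleton,
      Ideal.span_singleton_pow]
    rfl
  have hker : ∀ a : T, a ∈ FlatCA.powTorsion B' x T ↔ a ∈ 𝒥.ideal ⟨W, hW⟩ := fun a => by
    rw [mem_powTorsion, h𝒥]
    constructor
    · rintro ⟨n, hn⟩
      rw [← algebraMap_smul T (x ^ n), map_pow, hxT, smul_eq_mul] at hn
      refine ⟨n, fun q hq => ?_⟩
      rw [hE] at hq
      obtain ⟨r, rfl⟩ := Ideal.mem_span_singleton'.mp hq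
      show r * xT ^ n * a = 0
      rw [mul_assoc, hn, mul_zero]
    · rintro ⟨n, hn⟩
      refine ⟨n, ?_⟩
      rw [← algebraMap_smul T (x ^ n), map_pow, hxT, smul_eq_mul]
      exact hn _ (hE n ▸ Ideal.mem_span_singleton_self _)
  refine ⟨⟨W, hW⟩, inf_le_right, rfl, fun y hy => (hy : 𝒥.subschemeι y ∈ W).2, ?_⟩
  let V := 𝒥.subschemeι ⁻¹ᵁ W
  let Q := Γ(𝒥.subscheme, V)
  let q : T →+* Q := (𝒥.subschemeι.app W).hom
  letI : Algebra T Q := q.toAlgebra
  letI : Algebra CW Q := (q.comp (algebraMap CW T)).toAlgebra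
  haveI : IsScalarTower CW T Q := .of_algebraMap_eq' rfl
  letI : Algebra B' Q := (q.comp (algebraMap B' T)).toAlgebra
  haveI : IsScalarTower B' T Q := .of_algebraMap_eq' rfl
  haveI : IsScalarTower CW B' Q := .of_algebraMap_eq fun y => congrArg q (IsScalarTower.algebraMap_apply CW B' T y)
  have hqs : Function.Surjective q := 𝒥.subschemeι_app_surjective ⟨W, hW⟩
  have hk : LinearMap.ker (IsScalarTower.toAlgHom B' T Q).toLinearMap = FlatCA.powTorsion B' x T := by
    ext a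
    rw [LinearMap.mem_ker, hker, ← 𝒥.ker_subschemeι_app ⟨W, hW⟩]
    rfl
  let ε : (T ⧸ FlatCA.powTorsion B' x T) ≃ₗ[B'] Q :=
    (Submodule.quotEquivOfEq _ _ hk.symm).trans (LinearMap.quotKerEquivOfSurjective _ hqs)
  haveI := hflat
  haveI := hfp
  haveI : Module.FinitePresentation B' Q := Module.FinitePresentation.of_equiv ε
  haveI : Module.Flat CW Q := Module.Flat.of_linearEquiv (ε.symm.restrictScalars CW)
  have hBT : Function.Surjective (algebraMap B' T) := by
    intro t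
    induction t using h23.1.inductionOn with
    | zero => exact ⟨0, map_zero _⟩
    | tmul p =>
      obtain ⟨y, rfl⟩ := hsurj p
      exact ⟨algebraMap B₀ B' y, by
        rw [← IsScalarTower.algebraMap_apply]; exact IsScalarTower.algebraMap_apply B₀ Γ(X, P) T y⟩
    | smul s y hy => obtain ⟨z, rfl⟩ := hy; exact ⟨s * z, by rw [map_mul, Algebra.smul_def]⟩
    | add y z hy hz => obtain ⟨a, rfl⟩ := hy; obtain ⟨w, rfl⟩ := hz; exact ⟨a + w, map_add _ _ _⟩
  haveI : Algebra.FinitePresentation CW Q :=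
    algebra_finitePresentation_of_module (B := B') (hqs.comp hBT)
  have happ : ((𝒥.subschemeι ≫ p₂).appLE Wc.1 V fun y hy => (hy : 𝒥.subschemeι y ∈ W).2).hom = algebraMap CW Q := by
    rw [← Scheme.Hom.appLE_comp_appLE 𝒥.subschemeι p₂ Wc.1 W V inf_le_right le_rfl, ← Scheme.Hom.app_eq_appLE]
    rfl
  exact ⟨happ ▸ RingHom.flat_algebraMap_iff.mpr inferInstance,
    happ ▸ RingHom.finitePresentation_algebraMap.mpr inferInstance⟩

end Groth.Agent.Flattening12
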